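import Groth.Agent.EtCons.FinShriek
import Groth.Agent.EtAcycX.Restrict
import Groth.Agent.EtMV.Etale
import Groth.Agent.EtMV.HofPush
import Groth.Agent.EtIntegral.BaseChange
import Groth.Agent.EtPullExact.Basic
import Groth.Agent.S8525

/-!
The transfer along a finite étale morphism.
-/

set_option autoImplicit false
set_option backward.isDefEq.respectTransparency false
set_option backward.isDefEq.respectTransparency.types false
set_option linter.unusedSectionVars false
set_option linter.auxLemma false
set_option linter.overlappingInstances false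
set_option linter.style.haveILetI false
set_option maxHeartbeats 1000000

universe u

open CategoryTheory CategoryTheory.Limits CategoryTheory.Abelian AlgebraicGeometry Opposite

noncomputable section

namespace Groth.Agent.EtTrace

open EtShriekStalk (Lifts incl incl_germ incl_toPush_lift incl_toPush_ne toLift toPush push)
open EtPushStalk (restrPushAdj compBcAdj up)

attribute [local instance 100000] EtCoh.H._proof_1 Groth.Agent.EtMV.hext
attribute [local instance 200000] Groth.Agent.EtMV.hextAb

variable {U X : Scheme.{u}} (j : U ⟶ X) [Etale j] [IsFinite j] [EtShriek.JCont j] (F : EtCoh.Ab X)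

/-- restriction followed by the transfer -/
def transfer : F ⟶ F :=
  haveI := EtCons.isIso_toPush j ((EtShriek.restrAlong j).obj F)
  (restrPushAdj j).unit.app F ≫ inv ((toPush j).app ((EtShriek.restrAlong j).obj F)) ≫
    (EtShriek.extZeroAdj j).counit.app F

theorem unit_app (V : X.Etale) (t : EtCoh.sect F V) :
    ((restrPushAdj j).unit.app F).hom.app (op V) t = F.obj.map ((compBcAdj j).counit.app V).op t := by
  have := congr_app (Adjunction.map_restrictFullyFaithful_unit_app
    ((compBcAdj j).op.whiskerLeft AddCommGrpCat.{u + 1})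
    (fullyFaithfulSheafToPresheaf X.smallEtaleTopology AddCommGrpCat.{u + 1})
    (fullyFaithfulSheafToPresheaf _ _)
    (L := EtShriek.restrAlong j) (R := EtCoh.push j) (Iso.refl _) (Iso.refl _) F) (op V)
  simp at this
  exact ConcreteCategory.congr_hom this t

variable {Ω : Type u} [Field Ω] [IsSepClosed Ω] (ξ : Spec (CommRingCat.of Ω) ⟶ X)

theorem comp_incl (u : Lifts j ξ) (g : (EtCoh.stalk ξ).obj F) :
    (EtCoh.stalk ξ).map ((EtShriek.extZeroAdj j).counit.app F) (incl j ξ _ u
      (toLift j ξ _ u ((EtCoh.stalk ξ).map ((restrPushAdj j).unit.app F) g))) = g := by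
  obtain ⟨u, rfl⟩ := u
  obtain ⟨V, v₀, t, rfl⟩ := (Scheme.pointSmallEtale (u ≫ j)).toPresheafFiber_jointly_surjective (P := F.obj) g
  let v : Over.mk (u ≫ j) ⟶ (Scheme.Etale.forget X).obj V := v₀
  rw [toLift, eqToHom_refl, Category.id_comp]
  erw [GrothendieckTopology.Point.toPresheafFiber_naturality_apply (Scheme.pointSmallEtale (u ≫ j))
    ((restrPushAdj j).unit.app F).hom]
  erw [EtPushStalk.stalkPushHom_germ u ((EtShriek.restrAlong j).obj F) V v]
  erw [ConcreteCategory.congr_hom (incl_germ j (u ≫ j) ((EtShriek.restrAlong j).obj F) ⟨u, rfl⟩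
    ((EtCoh.bc j).obj V) (up j u v)) (((restrPushAdj j).unit.app F).hom.app (op V) t)]
  erw [GrothendieckTopology.Point.toPresheafFiber_naturality_apply (Scheme.pointSmallEtale (u ≫ j))
    ((EtShriek.extZeroAdj j).counit.app F).hom]
  let t' : EtCoh.sect ((EtShriek.restrAlong j).obj F) ((EtCoh.bc j).obj V) :=
    ((restrPushAdj j).unit.app F).hom.app (op V) t
  have h1 : ((EtShriek.extZeroAdj j).counit.app F).hom.app (op ((EtShriek.compEtale j).obj ((EtCoh.bc j).obj V)))
      (((EtShriek.extZeroAdj j).unit.app ((EtShriek.restrAlong j).obj F)).hom.app (op ((EtCoh.bc j).obj V)) t') = t' :=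
    ConcreteCategory.congr_hom (congrArg (fun m : (EtShriek.restrAlong j).obj F ⟶ (EtShriek.restrAlong j).obj F =>
      m.hom.app (op ((EtCoh.bc j).obj V))) ((EtShriek.extZeroAdj j).right_triangle_components F)) t'
  refine (congrArg _ (h1.trans (unit_app j F V t))).trans ?_
  refine (GrothendieckTopology.Point.toPresheafFiber_w_apply (Scheme.pointSmallEtale (u ≫ j))
    ((compBcAdj j).counit.app V) _ F.obj t).trans ?_
  congr 3
  refine Over.OverMorphism.ext ?_
  show pullback.lift v.left u _ ≫ ((compBcAdj j).counit.app V).left = v.left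
  simp [compBcAdj, MorphismProperty.Over.mapPullbackAdj]

theorem stalk_transfer [IsAlgClosed Ω] (g : (EtCoh.stalk ξ).obj F) :
    (EtCoh.stalk ξ).map (transfer j F) g = Nat.card (Lifts j ξ) • g := by
  classical
  haveI : Finite (EtIntegral.Lifts j ξ) := EtIntegral.finite_lifts j ξ
  letI := Fintype.ofFinite (EtIntegral.Lifts j ξ)
  let G := (EtShriek.restrAlong j).obj F
  haveI := EtCons.isIso_toPush j G
  let z := (EtCoh.stalk ξ).map ((restrPushAdj j).unit.app F) g
  let s := ∑ u : EtIntegral.Lifts j ξ, incl j ξ G u (toLift j ξ G u z)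
  have hs : (EtCoh.stalk ξ).map ((toPush j).app G) s = z := by
    apply (EtIntegral.bijective_stalkPushLifts j ξ G).1
    funext k
    show toLift j ξ G k ((EtCoh.stalk ξ).map ((toPush j).app G) _) = toLift j ξ G k z
    rw [map_sum, map_sum, Finset.sum_eq_single k]
    · exact incl_toPush_lift j ξ G k _
    · exact fun u _ h => incl_toPush_ne j ξ G u k h _
    · exact fun h => absurd (Finset.mem_univ k) h
  have hinv : (EtCoh.stalk ξ).map (inv ((toPush j).app G)) z = s := by
    rw [← hs, ← ConcreteCategory.comp_apply, ← Functor.map_comp, IsIso.hom_inv_id, CategoryTheory.Functor.map_id]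
    rfl
  rw [transfer, Functor.map_comp, Functor.map_comp, ConcreteCategory.comp_apply, ConcreteCategory.comp_apply]
  refine (congrArg _ hinv).trans ?_
  erw [map_sum]
  refine (Finset.sum_congr rfl fun u _ => comp_incl j F ξ u g).trans ?_
  rw [Finset.sum_const, Finset.card_univ, Nat.card_eq_fintype_card]

theorem natCard_lifts [IsAlgClosed Ω] : Nat.card (Lifts j ξ) = Nat.card ↥(pullback j ξ) := by
  let h := pullback.snd j ξ
  haveI : IsFinite h := MorphismProperty.pullback_snd _ _ inferInstance
  haveI : JacobsonSpace ↥(pullback j ξ) := LocallyOfFiniteType.jacobsonSpace h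
  haveI : Finite ↥(pullback j ξ) := by
    have := h.finite_preimage_singleton (default : Spec (CommRingCat.of Ω))
    rw [show h ⁻¹' {default} = Set.univ from Set.eq_univ_of_forall fun x =>
      Subsingleton.elim (α := Spec (CommRingCat.of Ω)) _ _] at this
    exact Set.finite_univ_iff.1 this
  have hc : closedPoints ↥(pullback j ξ) = Set.univ := Set.eq_univ_of_forall fun x => isClosed_discrete _
  refine Nat.card_congr ?_
  refine (Equiv.trans ?_ (pointEquivClosedPoint h)).trans ((Equiv.setCongr hc).trans (Equiv.Set.univ _))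
  exact
    { toFun := fun u => ⟨pullback.lift u.1 (𝟙 _) (by rw [u.2, Category.id_comp]), pullback.lift_snd _ _ _⟩
      invFun := fun p => ⟨p.1 ≫ pullback.fst j ξ, by rw [Category.assoc, pullback.condition, ← Category.assoc, p.2,
        Category.id_comp]⟩
      left_inv := fun u => Subtype.ext (pullback.lift_fst _ _ _)
      right_inv := fun p => Subtype.ext (pullback.hom_ext (pullback.lift_fst _ _ _)
        ((pullback.lift_snd _ _ _).trans p.2.symm)) }

variable {d : ℕ} (hd : ∀ (Ω : Type u) [Field Ω] [IsSepClosed Ω] (ξ : Spec (CommRingCat.of Ω) ⟶ X),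
  Nat.card ↥(pullback j ξ) = d) {L : Set ℕ} (hL : ∀ p : ℕ, p.Prime → p ∈ L → ¬ p ∣ d)

include hd hL in
theorem isIso_transfer (hF : EtAcyc.IsLTorsion L F) : IsIso (transfer j F) := by
  have hP : EtStalk.Covers (X := X) fun Ω _ _ _ => IsAlgClosed Ω := fun s =>
    ⟨AlgebraicClosure (X.residueField s), inferInstance, inferInstance,
      (Scheme.SpecToEquivOfField (AlgebraicClosure (X.residueField s)) X).symm
        ⟨s, CommRingCat.ofHom (algebraMap (X.residueField s) _)⟩, inferInstance,
      by simp [Scheme.SpecToEquivOfField]⟩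
  have hb : ∀ (Ω : Type u) [Field Ω] [IsSepClosed Ω] (ξ : Spec (CommRingCat.of Ω) ⟶ X), IsAlgClosed Ω →
      Function.Bijective ((EtCoh.stalk ξ).map (transfer j F)) := by
    intro Ω _ _ ξ hΩ
    haveI := hΩ
    have hmul : ∀ g, (EtCoh.stalk ξ).map (transfer j F) g = d • g := fun g => by
      rw [stalk_transfer, natCard_lifts, hd]
    have hk : ∀ g : (EtCoh.stalk ξ).obj F, ∃ a : ℤ, a • (d • g) = g := fun g => by
      obtain ⟨m, hm, h0⟩ := (Groth.Agent.S8525.result L F).1 hF Ω ξ g
      have hcop : Nat.Coprime d m := Nat.coprime_of_dvd fun p hp hpd hpm => hL p hp (hm.2 p hp hpm) hpd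
      refine ⟨Nat.gcdA d m, ?_⟩
      have e := Nat.gcd_eq_gcd_ab d m
      rw [show Nat.gcd d m = 1 from hcop, Nat.cast_one] at e
      conv_rhs => rw [← one_zsmul g, e, add_zsmul, mul_comm, mul_zsmul, mul_comm, mul_zsmul, natCast_zsmul,
        natCast_zsmul, h0, zsmul_zero, add_zero]
    refine ⟨fun a b hab => ?_, fun b => ?_⟩
    · rw [hmul, hmul] at hab
      obtain ⟨x, hx⟩ := hk (a - b)
      rw [← sub_eq_zero, ← hx, smul_sub, hab, sub_self, smul_zero]
    · obtain ⟨x, hx⟩ := hk b
      exact ⟨x • b, by rw [hmul, smul_comm, hx]⟩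
  haveI : Presheaf.IsLocallyInjective X.smallEtaleTopology (transfer j F).hom :=
    EtStalk.isLocallyInjective_of_covers _ hP fun Ω _ _ ξ h => (hb Ω ξ h).1
  haveI : Sheaf.IsLocallySurjective (transfer j F) :=
    EtStalk.isLocallySurjective_of_covers _ hP fun Ω _ _ ξ h => (hb Ω ξ h).2
  haveI : Mono (transfer j F) := Sheaf.mono_of_isLocallyInjective _
  haveI : Epi (transfer j F) := Sheaf.epi_of_isLocallySurjective _
  exact isIso_of_mono_of_epi _

include hd hL in
theorem subsingleton_H (hF : EtAcyc.IsLTorsion L F) (q : ℕ)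
    (h : Subsingleton (EtCoh.H U ((EtCoh.pull j).obj F) q)) : Subsingleton (EtCoh.H X F q) := by
  haveI := EtPullExact.pull_preservesFiniteLimits j
  haveI := isIso_transfer j F hd hL hF
  let G := (EtShriek.restrAlong j).obj F
  haveI h₁ : Subsingleton (EtCoh.H U G q) :=
    (EtAcycX.bijective_comp_iso (X := EtCoh.const U ℤ) ((EtPushStalk.restrPullIso j).app F).hom q).1.subsingleton
  have hb := EtMV.HofPush_bijective j G (fun k => EtIntegral.Rpush_succ_isZero j G k) q
  haveI h₂ : Subsingleton (EtCoh.H X ((EtCoh.push j).obj G) q) := hb.1.subsingleton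
  refine subsingleton_of_forall_eq 0 fun x => ?_
  refine (EtAcycX.bijective_comp_iso (X := EtCoh.const X ℤ) (transfer j F) q).1 ?_
  show Ext.comp x (Ext.mk₀ (transfer j F)) (add_zero q) = Ext.comp (0 : EtCoh.H X F q) _ (add_zero q)
  rw [Ext.zero_comp, transfer, ← Ext.mk₀_comp_mk₀, ← Ext.comp_assoc_of_second_deg_zero,
    @Subsingleton.elim _ h₂ (Ext.comp x (Ext.mk₀ ((restrPushAdj j).unit.app F)) (add_zero q)) 0, Ext.zero_comp]

end Groth.Agent.EtTrace
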