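import Groth.Agent.EtTrace.Epi
import Mathlib

/-!
Uniqueness of the trace.
-/

set_option autoImplicit false
set_option backward.isDefEq.respectTransparency false
set_option linter.style.haveILetI false
set_option maxHeartbeats 1000000
universe u

open CategoryTheory CategoryTheory.Limits AlgebraicGeometry Opposite

noncomputable section

namespace Groth.Agent.EtTrace

open Groth.Agent.EtIntegral (Lifts stalkPushLift)
open Groth.Agent.Weighting (pt pt_comp)

variable {X Y S : Scheme.{u}}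

instance stalk_additive {Ω : Type u} [Field Ω] [IsSepClosed Ω] (η : Spec (CommRingCat.of Ω) ⟶ S) :
    (EtCoh.stalk η).Additive where
  map_add {A B a b} := by
    ext z
    obtain ⟨V, v, t, rfl⟩ := exists_germ z
    change (EtCoh.stalk η).map (a + b) (germ V v t) =
      (EtCoh.stalk η).map a (germ V v t) + (EtCoh.stalk η).map b (germ V v t)
    rw [germ_app, germ_app, germ_app]
    exact map_add _ _ _

theorem hom_ext_of_pull_geometric {A B : EtCoh.Ab S} (a b : A ⟶ B)
    (h : ∀ (Ω : Type u) [Field Ω] [IsAlgClosed Ω] (η : Spec (CommRingCat.of Ω) ⟶ S),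
      (EtCoh.pull η).map a = (EtCoh.pull η).map b) : a = b := by
  refine hom_ext_stalk _ _ fun Ω _ _ _ η z => ?_
  let ι : Lifts η η := ⟨𝟙 _, Category.id_comp η⟩
  apply pullLift_injective η η _ ι
  rw [pullLift_natural, pullLift_natural, h Ω η]

section

variable {T : ∀ ⦃X S : Scheme.{u}⦄ (f : X ⟶ S) [IsFinite f] [Flat f] [LocallyOfFinitePresentation f],
    EtCoh.pull f ⋙ EtCoh.push f ⟶ 𝟭 (EtCoh.Ab S)}
  (h2 : ∀ ⦃X S X' S' : Scheme.{u}⦄ (f : X ⟶ S) (g : S' ⟶ S) (f' : X' ⟶ S') (g' : X' ⟶ X)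
    (hc : IsPullback g' f' f g)
    [IsFinite f] [Flat f] [LocallyOfFinitePresentation f]
    [IsFinite f'] [Flat f'] [LocallyOfFinitePresentation f'] (F : EtCoh.Ab S),
    EtCoh.baseChange0 f g f' g' hc.w ((EtCoh.pull f).obj F) ≫
      (EtCoh.push f').map ((EtCore.pullComp g' f).inv.app F ≫ (EtCore.pullCongr hc.w).hom.app F ≫
        (EtCore.pullComp f' g).hom.app F) ≫ (T f').app ((EtCoh.pull g).obj F) =
      (EtCoh.pull g).map ((T f).app F))
  (h3 : ∀ ⦃X Y S : Scheme.{u}⦄ (h : X ⟶ Y) (g : Y ⟶ S)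
    [IsFinite h] [Flat h] [LocallyOfFinitePresentation h]
    [IsFinite g] [Flat g] [LocallyOfFinitePresentation g]
    [IsFinite (h ≫ g)] [Flat (h ≫ g)] [LocallyOfFinitePresentation (h ≫ g)] (F : EtCoh.Ab S),
    (T (h ≫ g)).app F =
      (EtCoh.push (h ≫ g)).map ((EtCore.pullComp h g).hom.app F) ≫
        (EtCoh.pushComp g h).inv.app ((EtCoh.pull h).obj ((EtCoh.pull g).obj F)) ≫
        (EtCoh.push g).map ((T h).app ((EtCoh.pull g).obj F)) ≫ (T g).app F)
  (h4 : ∀ ⦃X S : Scheme.{u}⦄ (f : X ⟶ S) [IsFinite f] [Flat f] [LocallyOfFinitePresentation f] (n : ℕ)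
    (_ : ∀ s : S, f.finrank s = n) (F : EtCoh.Ab S),
    (EtCoh.pullPushAdj f).unit.app F ≫ (T f).app F = n • 𝟙 F)


include h2 in
theorem eq_of_geometric (f : X ⟶ S) [IsFinite f] [Flat f] [LocallyOfFinitePresentation f] (F : EtCoh.Ab S)
    (h : ∀ (Ω : Type u) [Field Ω] [IsAlgClosed Ω] (η : Spec (CommRingCat.of Ω) ⟶ S),
      (T (pullback.snd f η)).app ((EtCoh.pull η).obj F) = (tr (pullback.snd f η)).app ((EtCoh.pull η).obj F)) :
    (T f).app F = (tr f).app F := by
  refine hom_ext_of_pull_geometric _ _ fun Ω _ _ η => ?_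
  have hc := IsPullback.of_hasPullback f η
  refine (h2 f η (pullback.snd f η) (pullback.fst f η) hc F).symm.trans
    (Eq.trans ?_ (tr_baseChange f η (pullback.snd f η) (pullback.fst f η) hc F))
  rw [h Ω η]

include h2 h4 in
theorem eq_of_subsingleton (f : X ⟶ S) [IsFinite f] [Flat f] [LocallyOfFinitePresentation f] (F : EtCoh.Ab S)
    (hL : ∀ (Ω : Type u) [Field Ω] [IsAlgClosed Ω] (η : Spec (CommRingCat.of Ω) ⟶ S), Subsingleton (Lifts f η)) :
    (T f).app F = (tr f).app F := by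
  refine eq_of_geometric h2 f F fun Ω _ _ η => ?_
  let f' := pullback.snd f η
  haveI : IsFinite f' := MorphismProperty.pullback_snd _ _ ‹_›
  have hL' : ∀ (Ω' : Type u) [Field Ω'] [IsAlgClosed Ω'] (η' : Spec (CommRingCat.of Ω') ⟶ Spec (CommRingCat.of Ω)),
      Subsingleton (Lifts f' η') := fun Ω' _ _ η' => ⟨fun a b => Subtype.ext (pullback.hom_ext
        (by
          haveI := hL Ω' (η' ≫ η)
          have hl : ∀ c : Lifts f' η', (c.1 ≫ pullback.fst f η) ≫ f = η' ≫ η := fun c => by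
            rw [Category.assoc, pullback.condition, ← Category.assoc, c.2]
          exact congrArg Subtype.val (Subsingleton.elim (⟨_, hl a⟩ : Lifts f (η' ≫ η)) ⟨_, hl b⟩))
        (a.2.trans b.2.symm))⟩
  haveI := epi_unit_of_subsingleton f' hL' ((EtCoh.pull η).obj F)
  haveI : Subsingleton (Spec (CommRingCat.of Ω)) := inferInstanceAs (Subsingleton (PrimeSpectrum Ω))
  have hn : ∀ s, f'.finrank s = f'.finrank default := fun s => congrArg _ (Subsingleton.elim _ _)
  rw [← cancel_epi ((EtCoh.pullPushAdj f').unit.app ((EtCoh.pull η).obj F)), h4 f' _ hn]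
  exact (unit_tr f' _ hn _).symm

theorem deg_openImmersion (e : X ⟶ S) [IsOpenImmersion e] {Ω : Type u} [Field Ω]
    (ξ : Spec (CommRingCat.of Ω) ⟶ X) : deg e ξ = 1 := by
  unfold deg Weighting.lengthWeight
  rw [Weighting.insepDeg_eq_one, Nat.cast_one, mul_one]
  have h1 : Weighting.fibreLength e (pt ξ) = 1 := by
    unfold Weighting.fibreLength
    rw [Weighting.map_stalk_maximalIdeal]
    exact Module.length_eq_one_iff.2 ((isSimpleModule_iff_isCoatom).2 (Ideal.isMaximal_def.1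
      (IsLocalRing.maximalIdeal.isMaximal _)))
  rw [h1]
  rfl

include h2 h3 h4 in
theorem piece_eq {Ω : Type u} [Field Ω] (g : Y ⟶ Spec (CommRingCat.of Ω)) [IsFinite g]
    [Flat g] [LocallyOfFinitePresentation g] (h : X ⟶ Y) [IsFinite h] [Flat h] [LocallyOfFinitePresentation h]
    (M : EtCoh.Ab (Spec (CommRingCat.of Ω)))
    (hh : ∀ (Ω' : Type u) [Field Ω'] [IsAlgClosed Ω'] (η : Spec (CommRingCat.of Ω') ⟶ Y), Subsingleton (Lifts h η))
    (hhg : ∀ (Ω' : Type u) [Field Ω'] [IsAlgClosed Ω'] (η : Spec (CommRingCat.of Ω') ⟶ Spec (CommRingCat.of Ω)),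
      Subsingleton (Lifts (h ≫ g) η)) :
    (EtCoh.push g).map ((tr h).app ((EtCoh.pull g).obj M)) ≫ (T g).app M =
      (EtCoh.push g).map ((tr h).app ((EtCoh.pull g).obj M)) ≫ (tr g).app M := by
  have e1 := h3 h g M
  rw [eq_of_subsingleton h2 h4 h ((EtCoh.pull g).obj M) hh, eq_of_subsingleton h2 h4 (h ≫ g) M hhg,
    tr_comp h g M] at e1
  exact ((cancel_epi _).1 ((cancel_epi _).1 e1)).symm

theorem subsingleton_lifts_piece {Ω : Type u} [Field Ω] [IsAlgClosed Ω] (g : Y ⟶ Spec (CommRingCat.of Ω)) [IsFinite g]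
    (U : Y.Opens) (y : Y) (hU : ∀ z ∈ U, z = y) (Ω' : Type u) [Field Ω'] [IsAlgClosed Ω']
    (η : Spec (CommRingCat.of Ω') ⟶ Spec (CommRingCat.of Ω)) : Subsingleton (Lifts (U.ι ≫ g) η) := by
  haveI : Subsingleton (Spec (CommRingCat.of Ω)) := inferInstanceAs (Subsingleton (PrimeSpectrum Ω))
  obtain ⟨hf₀, hne₀, hn₀⟩ := Weighting.ncard_fib_at g (𝟙 (Spec (CommRingCat.of Ω))) y (Subsingleton.elim _ _)
  have h1 : {l | l ∈ Weighting.Fib g (𝟙 (Spec (CommRingCat.of Ω))) ∧ pt l = y}.ncard = 1 := by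
    obtain ⟨l, hl⟩ := hne₀
    exact Set.ncard_eq_one.2 ⟨l, Set.eq_singleton_iff_unique_mem.2 ⟨hl, fun m hm =>
      ext_of_apply_closedPoint_eq g hm.1 hl.1 (hm.2.trans hl.2.symm)⟩⟩
  obtain ⟨l, hl⟩ := Set.ncard_eq_one.1
    (((Weighting.ncard_fib_at g η y (Subsingleton.elim _ _)).2.2).trans (hn₀.symm.trans h1))
  refine ⟨fun a b => Subtype.ext ?_⟩
  rw [← cancel_mono U.ι]
  have hm : ∀ c : Lifts (U.ι ≫ g) η, c.1 ≫ U.ι ∈ {l | l ∈ Weighting.Fib g η ∧ pt l = y} := fun c => by
    refine ⟨(Category.assoc _ _ _).trans c.2, ?_⟩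
    rw [pt_comp]
    exact hU _ (pt c.1).2
  have ha := hm a
  have hb := hm b
  rw [hl, Set.mem_singleton_iff] at ha hb
  rw [ha, hb]

theorem sum_pieces [Fintype Y] (U : Y → Y.Opens) (hU : ∀ y z, z ∈ U y ↔ z = y) [∀ y, IsClosedImmersion (U y).ι]
    (G : EtCoh.Ab Y) :
    ∑ y, (EtCoh.pullPushAdj (U y).ι).unit.app G ≫ (tr (U y).ι).app G = 𝟙 G := by
  classical
  refine hom_ext_stalk _ _ fun Ω' _ _ _ η z => ?_
  have e : ∀ y, (EtCoh.stalk η).map ((EtCoh.pullPushAdj (U y).ι).unit.app G ≫ (tr (U y).ι).app G) z =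
      if y = pt η then z else 0 := by
    intro y
    refine (stalk_comp_apply _ _ η z).trans ((stalk_tr (U y).ι G η _).trans ?_)
    split_ifs with hy
    · have hr : Set.range η ⊆ Set.range (U y).ι := by
        rw [Weighting.range_eq_pt, Scheme.Opens.range_ι]
        exact Set.singleton_subset_iff.2 ((hU y _).2 hy.symm)
      let ξ : Lifts (U y).ι η := ⟨IsOpenImmersion.lift _ η hr, IsOpenImmersion.lift_fac _ _ _⟩
      haveI : Subsingleton (Lifts (U y).ι η) :=
        ⟨fun a b => Subtype.ext ((cancel_mono (U y).ι).1 (a.2.trans b.2.symm))⟩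
      letI : Fintype (Lifts (U y).ι η) := Fintype.ofSubsingleton ξ
      rw [φ_eq_sum, Fintype.sum_subsingleton _ ξ, comp_unit, deg_openImmersion, one_zsmul]
    · haveI : IsEmpty (Lifts (U y).ι η) := ⟨fun ξ => hy (((hU y _).1 (pt ξ.1).2).symm.trans
        ((pt_comp ξ.1 (U y).ι).symm.trans (congrArg pt ξ.2)))⟩
      exact finsum_of_isEmpty _
  rw [Functor.map_sum]
  refine (map_sum (AddMonoidHom.mk' (fun k : (EtCoh.stalk η).obj G ⟶ (EtCoh.stalk η).obj G => k z) (fun _ _ => rfl)) _ _).trans ?_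
  refine (Finset.sum_congr rfl fun y _ => e y).trans ?_
  rw [Finset.sum_ite_eq' Finset.univ (pt η) (fun _ => z), if_pos (Finset.mem_univ _)]
  exact (ConcreteCategory.congr_hom ((EtCoh.stalk η).map_id G) z).symm

include h2 h3 h4 in
theorem eq_over_field {Ω : Type u} [Field Ω] [IsAlgClosed Ω] (g : Y ⟶ Spec (CommRingCat.of Ω)) [IsFinite g]
    [Flat g] [LocallyOfFinitePresentation g] (M : EtCoh.Ab (Spec (CommRingCat.of Ω))) :
    (T g).app M = (tr g).app M := by
  classical
  haveI : Subsingleton (Spec (CommRingCat.of Ω)) := inferInstanceAs (Subsingleton (PrimeSpectrum Ω))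
  have hd : _root_.IsDiscrete (Set.univ : Set Y) := by
    convert g.isDiscrete_preimage_singleton default using 1
    ext z
    simp only [Set.mem_univ, Set.mem_preimage, Set.mem_singleton_iff, true_iff]
    exact Subsingleton.elim _ _
  haveI : DiscreteTopology Y := isDiscrete_univ_iff.mp hd
  haveI : Finite Y := by
    have h := g.finite_preimage_singleton default
    rw [show g ⁻¹' {default} = Set.univ from Set.eq_univ_of_forall fun y => Subsingleton.elim _ _] at h
    exact Set.finite_univ_iff.1 h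
  letI := Fintype.ofFinite Y
  let U : Y → Y.Opens := fun y => ⟨{y}, isOpen_discrete _⟩
  haveI : ∀ y, IsClosedImmersion (U y).ι := fun y =>
    IsClosedImmersion.of_isPreimmersion _ (by rw [Scheme.Opens.range_ι]; exact isClosed_discrete _)
  have hsum := sum_pieces U (fun y z => Iff.rfl) ((EtCoh.pull g).obj M)
  have hpiece : ∀ y, (EtCoh.push g).map ((tr (U y).ι).app ((EtCoh.pull g).obj M)) ≫ (T g).app M =
      (EtCoh.push g).map ((tr (U y).ι).app ((EtCoh.pull g).obj M)) ≫ (tr g).app M := fun y =>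
    piece_eq h2 h3 h4 g (U y).ι M
      (fun Ω' _ _ η => ⟨fun a b => Subtype.ext ((cancel_mono (U y).ι).1 (a.2.trans b.2.symm))⟩)
      (fun Ω' _ _ η => subsingleton_lifts_piece g (U y) y (fun _ h => h) Ω' η)
  have key : ∀ W : (EtCoh.pull g ⋙ EtCoh.push g).obj M ⟶ (𝟭 _).obj M,
      W = (EtCoh.push g).map (∑ y, (EtCoh.pullPushAdj (U y).ι).unit.app ((EtCoh.pull g).obj M) ≫
        (tr (U y).ι).app ((EtCoh.pull g).obj M)) ≫ W := fun W => by
    rw [hsum]
    exact ((congrArg (· ≫ W) ((EtCoh.push g).map_id _)).trans (Category.id_comp W)).symm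
  rw [key ((T g).app M), key ((tr g).app M), Functor.map_sum, Preadditive.sum_comp, Preadditive.sum_comp]
  refine Finset.sum_congr rfl fun y _ => ?_
  rw [Functor.map_comp, Category.assoc, Category.assoc]
  exact congrArg (_ ≫ ·) (hpiece y)

include h2 h3 h4 in
theorem eq_tr (f : X ⟶ S) [IsFinite f] [Flat f] [LocallyOfFinitePresentation f] : T f = tr f := by
  refine NatTrans.ext (funext fun F => eq_of_geometric h2 f F fun Ω _ _ η => ?_)
  exact eq_over_field h2 h3 h4 (pullback.snd f η) _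

end

end Groth.Agent.EtTrace
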