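import Groth.Agent.EtTrace.Main
import Groth.Agent.FinPts.NoTangent
import Groth.Agent.EtPBC.StalkZero
import Mathlib

/-!
# The trace adjunction of a finite étale morphism
-/

set_option autoImplicit false
set_option backward.isDefEq.respectTransparency false
set_option backward.isDefEq.respectTransparency.types false
set_option linter.auxLemma false
set_option linter.overlappingInstances false
set_option linter.style.haveILetI false
set_option linter.unusedSectionVars false

universe u

open CategoryTheory CategoryTheory.Limits AlgebraicGeometry Opposite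

noncomputable section

namespace Groth.Agent.EtTrace

open Groth.Agent.EtPBC
open EtShriekStalk (toPush)
open EtPushStalk (restrPushAdj restrPullIso)

/-- the number of points of a finite étale scheme over an algebraically closed field is its degree -/
theorem natCard_eq_finrank {K : Type u} [Field K] [IsAlgClosed K] {Z : Scheme.{u}}
    (q : Z ⟶ Spec (CommRingCat.of K)) [IsFinite q] [Etale q] (z : Spec (CommRingCat.of K)) :
    Nat.card ↥Z = q.finrank z := by
  haveI : IsAffine Z := isAffine_of_isAffineHom q
  let φ : CommRingCat.of K ⟶ Γ(Z, ⊤) := Spec.preimage (Z.isoSpec.inv ≫ q)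
  have hφ : Spec.map φ = Z.isoSpec.inv ≫ q := Spec.map_preimage _
  haveI : IsFinite (Spec.map φ) := by rw [hφ]; infer_instance
  haveI hEt : Etale (Spec.map φ) := by rw [hφ]; infer_instance
  letI : Algebra K Γ(Z, ⊤) := φ.hom.toAlgebra
  haveI : Module.Finite K Γ(Z, ⊤) := ((IsFinite.SpecMap_iff φ).1 inferInstance : φ.hom.Finite)
  haveI : Algebra.Etale K Γ(Z, ⊤) :=
    RingHom.etale_algebraMap.1 ((HasRingHomProperty.Spec_iff (P := @Etale)).1 hEt : φ.hom.Etale)
  haveI : Algebra.FormallyUnramified K Γ(Z, ⊤) := inferInstance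
  haveI : IsReduced Γ(Z, ⊤) := Algebra.FormallyUnramified.isReduced_of_field K _
  have h1 : q = Z.isoSpec.hom ≫ Spec.map φ := by rw [hφ, Iso.hom_inv_id_assoc]
  have h2 : (Spec.map φ).finrank z = Module.finrank K Γ(Z, ⊤) := by
    have := Scheme.Hom.finrank_SpecMap_algebraMap K Γ(Z, ⊤) z
    rw [show (CommRingCat.ofHom (algebraMap K Γ(Z, ⊤))) = φ from rfl] at this
    rw [this, Module.rankAtStalk_eq_finrank_of_free]
    rfl
  rw [h1, Scheme.Hom.finrank_comp_left_of_isIso, h2, Groth.Agent.FinPts.finrank_eq_card_of_isReduced]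
  exact Nat.card_congr Z.isoSpec.hom.homeomorph.toEquiv

variable {U X : Scheme.{u}} (j : U ⟶ X) [Etale j] [IsFinite j] [EtShriek.JCont j]

/-- extension by zero is the direct image, naturally -/
def shriekPushNatIso : EtShriek.extZero j ≅ EtCoh.push j :=
  haveI := fun F => EtCons.isIso_toPush j F
  haveI : IsIso (toPush j) := NatIso.isIso_of_isIso_app _
  asIso (toPush j)

/-- **direct image is left adjoint to inverse image** -/
def pushPullAdj : EtCoh.push j ⊣ EtCoh.pull j :=
  ((EtShriek.extZeroAdj j).ofNatIsoLeft (shriekPushNatIso j)).ofNatIsoRight (restrPullIso j)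

theorem unit_counit_eq_transfer (F : EtCoh.Ab X) :
    (EtCoh.pullPushAdj j).unit.app F ≫ (pushPullAdj j).counit.app F = transfer j F := by
  have h1 : (restrPushAdj j).unit.app F ≫ (EtCoh.push j).map ((restrPullIso j).hom.app F) =
      (EtCoh.pullPushAdj j).unit.app F :=
    Adjunction.unit_leftAdjointUniq_hom_app (restrPushAdj j) (EtCoh.pullPushAdj j) F
  have h2 : (pushPullAdj j).counit.app F = (EtCoh.push j).map ((restrPullIso j).inv.app F) ≫
      (shriekPushNatIso j).inv.app ((EtShriek.restrAlong j).obj F) ≫ (EtShriek.extZeroAdj j).counit.app F := by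
    simp [pushPullAdj, Adjunction.ofNatIsoLeft, Adjunction.ofNatIsoRight, Adjunction.equivHomsetLeftOfNatIso,
      Adjunction.equivHomsetRightOfNatIso, Adjunction.homEquiv_counit]
  haveI := EtCons.isIso_toPush j ((EtShriek.restrAlong j).obj F)
  rw [← h1, h2, Category.assoc, ← Functor.map_comp_assoc, Iso.hom_inv_id_app, CategoryTheory.Functor.map_id,
    Category.id_comp, transfer]
  congr 2
  rw [← cancel_mono ((toPush j).app ((EtShriek.restrAlong j).obj F)), IsIso.inv_hom_id]
  exact (shriekPushNatIso j).inv_hom_id_app _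

/-- **the transfer is multiplication by the degree** -/
theorem transfer_eq_nsmul [Flat j] (d : ℕ) (hd : ∀ x : X, j.finrank x = d) (F : EtCoh.Ab X) :
    transfer j F = d • 𝟙 F := by
  rw [← sub_eq_zero]
  refine IsZero.eq_of_tgt ?_ (Abelian.factorThruImage (transfer j F - d • 𝟙 F)) 0 |> fun h => by
    rw [← Abelian.image.fac (transfer j F - d • 𝟙 F), h, zero_comp]
  refine isZero_of_zeroAt _ fun x => ?_
  let Ω := AlgebraicClosure (X.residueField x)
  let ξ : Spec (CommRingCat.of Ω) ⟶ X :=
    Spec.map (CommRingCat.ofHom (algebraMap (X.residueField x) Ω)) ≫ X.fromSpecResidueField x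
  have hξ : ξ default = x := Scheme.fromSpecResidueField_apply x _
  refine (isZero_stalk_iff_zeroAt hξ _).1 ?_
  haveI : (EtCoh.stalk ξ).Additive := Functor.additive_of_preserves_binary_products _
  have h0 : (EtCoh.stalk ξ).map (transfer j F - d • 𝟙 F) = 0 := by
    rw [Functor.map_sub, Functor.map_nsmul, CategoryTheory.Functor.map_id, sub_eq_zero]
    refine AddCommGrpCat.ext fun g => ?_
    haveI : IsFinite (pullback.snd j ξ) := MorphismProperty.pullback_snd _ _ inferInstance
    haveI : Etale (pullback.snd j ξ) := MorphismProperty.pullback_snd _ _ inferInstance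
    rw [stalk_transfer, natCard_lifts, natCard_eq_finrank (pullback.snd j ξ) default,
      Scheme.Hom.finrank_pullback_snd, hd]
    simp
  have h1 : (EtCoh.stalk ξ).map (Abelian.factorThruImage (transfer j F - d • 𝟙 F)) = 0 := by
    rw [← cancel_mono ((EtCoh.stalk ξ).map (Abelian.image.ι (transfer j F - d • 𝟙 F))), zero_comp,
      ← Functor.map_comp, Abelian.image.fac, h0]
  exact IsZero.of_epi_eq_zero _ h1

end Groth.Agent.EtTrace
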