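import Groth.Agent.EtTrace.Compat
import Mathlib

/-!
Compatibility of the trace with base change and composition.
-/

set_option autoImplicit false
set_option backward.isDefEq.respectTransparency false
set_option linter.style.haveILetI false
set_option maxHeartbeats 1000000
universe u

open CategoryTheory CategoryTheory.Limits AlgebraicGeometry Opposite

noncomputable section

namespace Groth.Agent.EtTrace

open Groth.Agent.EtIntegral (Lifts stalkPushLift)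

variable {X Y S : Scheme.{u}} {Ω : Type u} [Field Ω] [IsSepClosed Ω]

theorem pullLift_surjective (f : X ⟶ S) (η : Spec (CommRingCat.of Ω) ⟶ S) (F : EtCoh.Ab S) (ξ : Lifts f η) :
    Function.Surjective (pullLift f η F ξ) :=
  ((ConcreteCategory.isIso_iff_bijective _).mp inferInstance).2

theorem pullLift_injective (f : X ⟶ S) (η : Spec (CommRingCat.of Ω) ⟶ S) (F : EtCoh.Ab S) (ξ : Lifts f η) :
    Function.Injective (pullLift f η F ξ) :=
  ((ConcreteCategory.isIso_iff_bijective _).mp inferInstance).1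

theorem stalk_inv_hom {A B : EtCoh.Ab X} (e : A ≅ B) (ξ : Spec (CommRingCat.of Ω) ⟶ X) (z : (EtCoh.stalk ξ).obj A) :
    (EtCoh.stalk ξ).map e.inv ((EtCoh.stalk ξ).map e.hom z) = z := by
  rw [← ConcreteCategory.comp_apply, ← Functor.map_comp, e.hom_inv_id, CategoryTheory.Functor.map_id]
  rfl

theorem stalk_comp_apply {A B C : EtCoh.Ab X} (a : A ⟶ B) (b : B ⟶ C) (ξ : Spec (CommRingCat.of Ω) ⟶ X)
    (z : (EtCoh.stalk ξ).obj A) :
    (EtCoh.stalk ξ).map (a ≫ b) z = (EtCoh.stalk ξ).map b ((EtCoh.stalk ξ).map a z) := by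
  rw [Functor.map_comp]; rfl

variable [IsAlgClosed Ω]

/-- lifts along a composite -/
def liftsEquiv (h : X ⟶ Y) (g : Y ⟶ S) (η : Spec (CommRingCat.of Ω) ⟶ S) :
    ((ζ : Lifts g η) × Lifts h ζ.1) ≃ Lifts (h ≫ g) η :=
  Equiv.ofBijective (fun p => compLift h g p.1 p.2)
    ⟨fun p p' e => by
      obtain ⟨⟨ζ, hζ⟩, ⟨ξ, hξ⟩⟩ := p
      obtain ⟨⟨ζ', hζ'⟩, ⟨ξ', hξ'⟩⟩ := p'
      obtain rfl : ξ = ξ' := congrArg Subtype.val e
      obtain rfl : ζ = ζ' := hξ.symm.trans hξ'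
      rfl,
    fun ξ => ⟨⟨⟨ξ.1 ≫ h, (Category.assoc _ _ _).trans ξ.2⟩, ⟨ξ.1, rfl⟩⟩, rfl⟩⟩

theorem φ_comp (h : X ⟶ Y) (g : Y ⟶ S) [IsFinite h] [Flat h] [LocallyOfFinitePresentation h] [IsFinite g] [Flat g]
    [LocallyOfFinitePresentation g] (η : Spec (CommRingCat.of Ω) ⟶ S) (F : EtCoh.Ab S)
    (z : (EtCoh.stalk η).obj (PP (h ≫ g) F)) :
    φ (h ≫ g) η F z = φ g η F ((EtCoh.stalk η).map ((EtCoh.push g).map ((tr h).app ((EtCoh.pull g).obj F)))
      ((EtCoh.stalk η).map ((EtCoh.pushComp g h).inv.app ((EtCoh.pull h).obj ((EtCoh.pull g).obj F)))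
        ((EtCoh.stalk η).map ((EtCoh.push (h ≫ g)).map ((EtCore.pullComp h g).hom.app F)) z))) := by
  classical
  haveI := finite_lifts' g η
  haveI := finite_lifts' (h ≫ g) η
  haveI : ∀ ζ : Lifts g η, Finite (Lifts h ζ.1) := fun ζ => finite_lifts' h ζ.1
  letI := Fintype.ofFinite (Lifts g η)
  letI := Fintype.ofFinite (Lifts (h ≫ g) η)
  letI : ∀ ζ : Lifts g η, Fintype (Lifts h ζ.1) := fun ζ => Fintype.ofFinite _
  set G := (EtCoh.pull g).obj F
  set z₂ := (EtCoh.stalk η).map ((EtCoh.push (h ≫ g)).map ((EtCore.pullComp h g).hom.app F)) z with hz₂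
  set z₁ := (EtCoh.stalk η).map ((EtCoh.pushComp g h).inv.app ((EtCoh.pull h).obj G)) z₂ with hz₁
  have hz₁' : (EtCoh.stalk η).map ((EtCoh.pushComp g h).hom.app ((EtCoh.pull h).obj G)) z₁ = z₂ :=
    stalk_inv_hom ((EtCoh.pushComp g h).app ((EtCoh.pull h).obj G)).symm η z₂
  rw [φ_eq_sum, φ_eq_sum, ← (liftsEquiv h g η).sum_comp, Fintype.sum_sigma]
  refine Finset.sum_congr rfl fun ζ _ => ?_
  have key : ∀ ξ : Lifts h ζ.1,
      comp (h ≫ g) η F (compLift h g ζ ξ) z =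
        inv (pullLift g η F ζ) (comp h ζ.1 G ξ (stalkPushLift g η ((EtCoh.push h).obj ((EtCoh.pull h).obj G)) ζ z₁)) := by
    intro ξ
    rw [comp_eq_iff]
    apply ((ConcreteCategory.isIso_iff_bijective ((EtCoh.stalk ξ.1).map ((EtCore.pullComp h g).hom.app F))).mp
      inferInstance).1
    refine (pullComp_pullLift h g η F ζ ξ _).trans ?_
    rw [show ∀ w, pullLift g η F ζ (inv (pullLift g η F ζ) w) = w from fun w =>
      ConcreteCategory.congr_hom (IsIso.inv_hom_id (pullLift g η F ζ)) w]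
    rw [(comp_eq_iff h ζ.1 G ξ _ _).1 rfl, ← pushComp_pushLift, hz₁', hz₂]
    exact pushLift_natural (h ≫ g) η ((EtCore.pullComp h g).hom.app F) (compLift h g ζ ξ) z
  show ∑ ξ : Lifts h ζ.1, deg (h ≫ g) ξ.1 • comp (h ≫ g) η F (compLift h g ζ ξ) z = _
  simp only [key]
  show _ = deg g ζ.1 • inv (pullLift g η F ζ) (stalkPushLift g η G ζ _)
  refine Eq.trans ?_ (congrArg (fun x => deg g ζ.1 • inv (pullLift g η F ζ) x)
    ((pushLift_natural g η ((tr h).app G) ζ z₁).trans (stalk_tr h G ζ.1 _))).symm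
  rw [φ_eq_sum, map_sum, Finset.smul_sum]
  refine Finset.sum_congr rfl fun ξ _ => ?_
  rw [map_zsmul, smul_smul]
  congr 1
  rw [deg_comp, ξ.2, mul_comm]

theorem tr_comp (h : X ⟶ Y) (g : Y ⟶ S) [IsFinite h] [Flat h] [LocallyOfFinitePresentation h] [IsFinite g] [Flat g]
    [LocallyOfFinitePresentation g] [IsFinite (h ≫ g)] [Flat (h ≫ g)] [LocallyOfFinitePresentation (h ≫ g)]
    (F : EtCoh.Ab S) :
    (tr (h ≫ g)).app F =
      (EtCoh.push (h ≫ g)).map ((EtCore.pullComp h g).hom.app F) ≫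
        (EtCoh.pushComp g h).inv.app ((EtCoh.pull h).obj ((EtCoh.pull g).obj F)) ≫
          (EtCoh.push g).map ((tr h).app ((EtCoh.pull g).obj F)) ≫ (tr g).app F := by
  refine hom_ext_stalk _ _ fun Ω _ _ _ η z => ?_
  rw [stalk_comp_apply, stalk_comp_apply, stalk_comp_apply]
  exact (stalk_tr (h ≫ g) F η z).trans ((φ_comp h g η F z).trans (stalk_tr g F η _).symm)

/-- lifts along a base change -/
def liftsEquivBC {X' S' : Scheme.{u}} {f : X ⟶ S} {g : S' ⟶ S} {f' : X' ⟶ S'} {g' : X' ⟶ X}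
    (hc : IsPullback g' f' f g) (q : Spec (CommRingCat.of Ω) ⟶ S') : Lifts f' q ≃ Lifts f (q ≫ g) where
  toFun ξ' := ⟨ξ'.1 ≫ g', by rw [Category.assoc, hc.w, ← Category.assoc, ξ'.2]⟩
  invFun ξ := ⟨hc.lift ξ.1 q ξ.2, hc.lift_snd _ _ _⟩
  left_inv ξ' := Subtype.ext (hc.hom_ext (hc.lift_fst _ _ _) ((hc.lift_snd _ _ _).trans ξ'.2.symm))
  right_inv ξ := Subtype.ext (hc.lift_fst _ _ _)

theorem tr_baseChange {X' S' : Scheme.{u}} (f : X ⟶ S) (g : S' ⟶ S) (f' : X' ⟶ S') (g' : X' ⟶ X)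
    (hc : IsPullback g' f' f g)
    [IsFinite f] [Flat f] [LocallyOfFinitePresentation f]
    [IsFinite f'] [Flat f'] [LocallyOfFinitePresentation f'] (F : EtCoh.Ab S) :
    EtCoh.baseChange0 f g f' g' hc.w ((EtCoh.pull f).obj F) ≫
      (EtCoh.push f').map ((EtCore.pullComp g' f).inv.app F ≫ (EtCore.pullCongr hc.w).hom.app F ≫
        (EtCore.pullComp f' g).hom.app F) ≫ (tr f').app ((EtCoh.pull g).obj F) =
      (EtCoh.pull g).map ((tr f).app F) := by
  classical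
  refine hom_ext_stalk _ _ fun Ω _ _ _ q y => ?_
  obtain ⟨z, rfl⟩ := pullLift_surjective g (q ≫ g) _ ⟨q, rfl⟩ y
  refine Eq.trans ?_ (pullLift_natural g (q ≫ g) ((tr f).app F) ⟨q, rfl⟩ z)
  refine Eq.trans ?_ (congrArg (pullLift g (q ≫ g) F ⟨q, rfl⟩) (stalk_tr f F (q ≫ g) z)).symm
  rw [stalk_comp_apply, stalk_comp_apply]
  refine (stalk_tr f' _ q _).trans ?_
  haveI := finite_lifts' f' q
  haveI := finite_lifts' f (q ≫ g)
  letI := Fintype.ofFinite (Lifts f' q)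
  letI := Fintype.ofFinite (Lifts f (q ≫ g))
  rw [φ_eq_sum, φ_eq_sum, map_sum, ← (liftsEquivBC hc q).sum_comp]
  refine Finset.sum_congr rfl fun ξ' _ => ?_
  rw [map_zsmul]
  set ξ := liftsEquivBC hc q ξ'
  congr 1
  · exact deg_baseChange f f' g g' hc ξ'.1
  rw [comp_eq_iff]
  refine Eq.trans ?_ (pushLift_natural f' q _ ξ' _).symm
  refine Eq.trans ?_ (congrArg _ (baseChange0_pushLift f g f' g' hc.w q ((EtCoh.pull f).obj F) ξ' ξ rfl z)).symm
  rw [← (comp_eq_iff f (q ≫ g) F ξ z _).1 rfl]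
  set c := comp f (q ≫ g) F ξ z
  rw [stalk_comp_apply, stalk_comp_apply]
  have e1 : (EtCoh.stalk ξ'.1).map ((EtCore.pullComp g' f).inv.app F)
      (pullLift g' ξ.1 ((EtCoh.pull f).obj F) ⟨ξ'.1, rfl⟩ (pullLift f (q ≫ g) F ξ c)) =
      pullLift (g' ≫ f) (q ≫ g) F (compLift g' f ξ ⟨ξ'.1, rfl⟩) c := by
    rw [← pullComp_pullLift]
    exact stalk_inv_hom ((EtCore.pullComp g' f).app F) ξ'.1 _
  refine Eq.trans ?_ (congrArg (fun x => (EtCoh.stalk ξ'.1).map ((EtCore.pullComp f' g).hom.app F)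
    ((EtCoh.stalk ξ'.1).map ((EtCore.pullCongr hc.w).hom.app F) x)) e1).symm
  refine Eq.trans ?_ (congrArg _ (pullCongr_pullLift hc.w (q ≫ g) F (compLift g' f ξ ⟨ξ'.1, rfl⟩) c)).symm
  exact (pullComp_pullLift f' g (q ≫ g) F ⟨q, rfl⟩ ξ' c).symm

end Groth.Agent.EtTrace
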