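import Groth.Agent.EtTrace.Exist
import Groth.Agent.ShriekLQF.Compact
import Mathlib

/-!
The stalk maps against composition and base change.
-/

set_option autoImplicit false
set_option backward.isDefEq.respectTransparency false
set_option linter.style.haveILetI false
set_option maxHeartbeats 1000000
universe u

open CategoryTheory CategoryTheory.Limits AlgebraicGeometry Opposite

noncomputable section

namespace Groth.Agent.EtTrace

open Groth.Agent.EtIntegral (Lifts stalkPushLift bcSwap bcSwap_fst baseChange0_unit)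
open Groth.Agent.ShriekLQF (bcComp pushComp_app)

variable {X Y S : Scheme.{u}} {Ω : Type u} [Field Ω] [IsSepClosed Ω]

theorem bcComp_fst (h : X ⟶ Y) (g : Y ⟶ S) (V : S.Etale) :
    ((bcComp h g).hom.app V).left ≫ pullback.fst (pullback.snd V.hom g) h ≫ pullback.fst V.hom g =
      pullback.fst V.hom (h ≫ g) :=
  MorphismProperty.Over.pullbackComp_left_fst_fst (P := EtCoh.etaleMP) (Q := ⊤) h g V

/-- the composite lift -/
def compLift (h : X ⟶ Y) (g : Y ⟶ S) {η : Spec (CommRingCat.of Ω) ⟶ S} (ζ : Lifts g η) (ξ : Lifts h ζ.1) :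
    Lifts (h ≫ g) η :=
  ⟨ξ.1, by rw [← Category.assoc, ξ.2]; exact ζ.2⟩

theorem upL_bcComp (h : X ⟶ Y) (g : Y ⟶ S) {η : Spec (CommRingCat.of Ω) ⟶ S} (ζ : Lifts g η) (ξ : Lifts h ζ.1)
    {V : S.Etale} (v : Over.mk η ⟶ (Scheme.Etale.forget S).obj V) :
    upL (h ≫ g) (compLift h g ζ ξ) v ≫ (Scheme.Etale.forget X).map ((bcComp h g).hom.app V) =
      upL h ξ (upL g ζ v) := by
  refine Over.OverMorphism.ext ?_
  let V1 : Y.Etale := (EtCoh.bc g).obj V
  change pullback.lift v.left ξ.1 ((Over.w v).trans (compLift h g ζ ξ).2.symm) ≫ ((bcComp h g).hom.app V).left =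
    pullback.lift (pullback.lift v.left ζ.1 ((Over.w v).trans ζ.2.symm)) ξ.1
      ((pullback.lift_snd _ _ _).trans ξ.2.symm)
  have hsnd : ((bcComp h g).hom.app V).left ≫ pullback.snd (pullback.snd V.hom g) h = pullback.snd V.hom (h ≫ g) :=
    MorphismProperty.Over.w ((bcComp h g).hom.app V)
  apply pullback.hom_ext
  · apply pullback.hom_ext
    · simp only [Category.assoc]
      erw [bcComp_fst h g V, pullback.lift_fst_assoc, pullback.lift_fst, pullback.lift_fst]
    · simp only [Category.assoc]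
      erw [pullback.condition (f := pullback.snd V.hom g) (g := h), reassoc_of% hsnd, pullback.lift_snd_assoc,
        pullback.lift_snd_assoc]
  · erw [Category.assoc, hsnd, pullback.lift_snd, pullback.lift_snd]

theorem pushComp_pushLift (h : X ⟶ Y) (g : Y ⟶ S) (η : Spec (CommRingCat.of Ω) ⟶ S) (ζ : Lifts g η) (ξ : Lifts h ζ.1)
    (G : EtCoh.Ab X) (z : (EtCoh.stalk η).obj ((EtCoh.push g).obj ((EtCoh.push h).obj G))) :
    stalkPushLift (h ≫ g) η G (compLift h g ζ ξ) ((EtCoh.stalk η).map ((EtCoh.pushComp g h).hom.app G) z) =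
      stalkPushLift h ζ.1 G ξ (stalkPushLift g η ((EtCoh.push h).obj G) ζ z) := by
  obtain ⟨V, v, t, rfl⟩ := exists_germ z
  rw [germ_app]
  refine (germ_pushLift (h ≫ g) η G (compLift h g ζ ξ) V v _).trans ?_
  refine Eq.trans ?_ (congrArg (stalkPushLift h ζ.1 G ξ) (germ_pushLift g η _ ζ V v t)).symm
  refine Eq.trans ?_ (germ_pushLift h ζ.1 G ξ _ _ _).symm
  rw [pushComp_app h g G V]
  refine (germ_map (F := G) ((bcComp h g).hom.app V) _ t).trans ?_
  rw [upL_bcComp]
  rfl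

theorem pullComp_pullLift (h : X ⟶ Y) (g : Y ⟶ S) (η : Spec (CommRingCat.of Ω) ⟶ S) (F : EtCoh.Ab S)
    (ζ : Lifts g η) (ξ : Lifts h ζ.1) (c : (EtCoh.stalk η).obj F) :
    (EtCoh.stalk ξ.1).map ((EtCore.pullComp h g).hom.app F) (pullLift (h ≫ g) η F (compLift h g ζ ξ) c) =
      pullLift h ζ.1 ((EtCoh.pull g).obj F) ξ (pullLift g η F ζ c) := by
  obtain ⟨V, v, t, rfl⟩ := exists_germ c
  rw [germ_pullLift, germ_pullLift, germ_pullLift]
  let adj := ((EtCoh.pullPushAdj g).comp (EtCoh.pullPushAdj h)).ofNatIsoRight (EtCoh.pushComp g h)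
  have h1 : (EtCoh.pullPushAdj (h ≫ g)).unit.app F ≫ (EtCoh.push (h ≫ g)).map ((EtCore.pullComp h g).hom.app F) =
      adj.unit.app F := Adjunction.unit_leftAdjointUniq_hom_app _ adj F
  have h2 : adj.unit.app F = (EtCoh.pullPushAdj g).unit.app F ≫
      (EtCoh.push g).map ((EtCoh.pullPushAdj h).unit.app ((EtCoh.pull g).obj F)) ≫
        (EtCoh.pushComp g h).hom.app ((EtCoh.pull h).obj ((EtCoh.pull g).obj F)) := by
    simp [adj, Adjunction.ofNatIsoRight, Adjunction.mkOfHomEquiv, Adjunction.homEquiv_unit]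
  have e := congrArg (fun k => k.hom.app (op V) t) (h1.trans h2)
  refine (germ_app _ ((EtCoh.bc (h ≫ g)).obj V) _ _).trans ?_
  refine (congrArg (germ (F := (EtCoh.pull h).obj ((EtCoh.pull g).obj F)) ((EtCoh.bc (h ≫ g)).obj V)
    (upL (h ≫ g) (compLift h g ζ ξ) v)) (e.trans (ConcreteCategory.congr_hom (pushComp_app h g _ V) _))).trans ?_
  refine (germ_map ((bcComp h g).hom.app V) _ _).trans ?_
  rw [upL_bcComp]
  rfl

theorem pullCongr_pullLift {f f' : X ⟶ S} (hf : f = f') (η : Spec (CommRingCat.of Ω) ⟶ S) (F : EtCoh.Ab S)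
    (ξ : Lifts f η) (c : (EtCoh.stalk η).obj F) :
    (EtCoh.stalk ξ.1).map ((EtCore.pullCongr hf).hom.app F) (pullLift f η F ξ c) =
      pullLift f' η F ⟨ξ.1, hf ▸ ξ.2⟩ c := by
  subst hf
  simp only [EtCore.pullCongr, eqToIso_refl, Iso.refl_hom, NatTrans.id_app, CategoryTheory.Functor.map_id]
  rfl

theorem baseChange0_pushLift {X' S' : Scheme.{u}} (f : X ⟶ S) (g : S' ⟶ S) (f' : X' ⟶ S') (g' : X' ⟶ X)
    (w : g' ≫ f = f' ≫ g) (q : Spec (CommRingCat.of Ω) ⟶ S') (A : EtCoh.Ab X) (ξ' : Lifts f' q)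
    (ξ : Lifts f (q ≫ g)) (hξ : ξ'.1 ≫ g' = ξ.1) (z : (EtCoh.stalk (q ≫ g)).obj ((EtCoh.push f).obj A)) :
    stalkPushLift f' q ((EtCoh.pull g').obj A) ξ'
        ((EtCoh.stalk q).map (EtCoh.baseChange0 f g f' g' w A) (pullLift g (q ≫ g) _ ⟨q, rfl⟩ z)) =
      pullLift g' ξ.1 A ⟨ξ'.1, hξ⟩ (stalkPushLift f (q ≫ g) A ξ z) := by
  obtain ⟨V, v, t, rfl⟩ := exists_germ z
  rw [germ_pullLift]
  refine (congrArg (stalkPushLift f' q ((EtCoh.pull g').obj A) ξ')
    (germ_app (EtCoh.baseChange0 f g f' g' w A) ((EtCoh.bc g).obj V) _ _)).trans ?_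
  rw [baseChange0_unit]
  refine (germ_pushLift f' q _ ξ' _ _ _).trans ?_
  refine Eq.trans ?_ (congrArg (pullLift g' ξ.1 A ⟨ξ'.1, hξ⟩) (germ_pushLift f (q ≫ g) A ξ V v t)).symm
  refine Eq.trans ?_ (germ_pullLift g' ξ.1 A ⟨ξ'.1, hξ⟩ _ _ _).symm
  refine (germ_map (bcSwap f g f' g' w V) _ _).trans ?_
  refine germ_congr ?_ _
  let vl : Spec (CommRingCat.of Ω) ⟶ V.left := v.left
  have hvl : vl ≫ V.hom = q ≫ g := Over.w v
  have h1 : ξ'.1 ≫ f' = q := ξ'.2
  change pullback.lift (pullback.lift vl q hvl) ξ'.1 ((pullback.lift_snd _ _ _).trans h1.symm) ≫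
      (bcSwap f g f' g' w V).left =
    pullback.lift (pullback.lift vl ξ.1 (hvl.trans ξ.2.symm)) ξ'.1 ((pullback.lift_snd _ _ _).trans hξ.symm)
  have hsnd : (bcSwap f g f' g' w V).left ≫ pullback.snd (pullback.snd V.hom f) g' =
      pullback.snd (pullback.snd V.hom g) f' := MorphismProperty.Over.w (bcSwap f g f' g' w V)
  apply pullback.hom_ext
  · apply pullback.hom_ext
    · simp only [Category.assoc]
      erw [bcSwap_fst f g f' g' w V]
      erw [pullback.lift_fst_assoc, pullback.lift_fst, pullback.lift_fst_assoc, pullback.lift_fst]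
    · simp only [Category.assoc]
      erw [pullback.condition (f := pullback.snd V.hom f) (g := g'), reassoc_of% hsnd, pullback.lift_snd_assoc,
        pullback.lift_snd_assoc]
  · erw [Category.assoc, hsnd, pullback.lift_snd, pullback.lift_snd]

end Groth.Agent.EtTrace
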