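import Groth.Agent.EtCons.Compact1
import Groth.Agent.EtCons.Presentation
import Groth.Agent.EtCons.NoethCons
import Groth.Agent.EtAcycX.Killed
import Groth.Agent.EtPullExact.Basic
import Groth.Agent.EtMV.HenselVanish
import Groth.Agent.S0134
import Groth.Agent.S0127

/-!
Constructibility descends along surjective morphisms of quasi-compact quasi-separated schemes.
-/

set_option autoImplicit false
set_option backward.isDefEq.respectTransparency false
set_option backward.isDefEq.respectTransparency.types false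
set_option linter.unusedSectionVars false
set_option linter.auxLemma false
set_option linter.overlappingInstances false
set_option linter.style.haveILetI false
set_option maxHeartbeats 1000000

universe u

open CategoryTheory CategoryTheory.Limits AlgebraicGeometry Opposite

noncomputable section

namespace Groth.Agent.EtTrace

open EtAcycX (Kd nsmulId_app)

variable {X Y : Scheme.{u}} (f : X ⟶ Y) [Surjective f]

theorem eq_of_pull_eq {F G : EtCoh.Ab Y} {a b : F ⟶ G} (h : (EtCoh.pull f).map a = (EtCoh.pull f).map b) : a = b := by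
  haveI := EtMV.mono_unit_of_surjective f G
  have ha := (EtCoh.pullPushAdj f).unit.naturality a
  have hb := (EtCoh.pullPushAdj f).unit.naturality b
  simp only [Functor.id_map, Functor.comp_map] at ha hb
  rw [← cancel_mono ((EtCoh.pullPushAdj f).unit.app G), ha, hb, h]

theorem epi_of_epi_pull {F G : EtCoh.Ab Y} (a : F ⟶ G) [Epi ((EtCoh.pull f).map a)] : Epi a :=
  ⟨fun g h e => eq_of_pull_eq f (by
    rw [← cancel_epi ((EtCoh.pull f).map a), ← Functor.map_comp, ← Functor.map_comp, e])⟩

theorem kd_of_killedBy {m : ℕ} {F : EtCoh.Ab Y} (h : EtCoh.KilledBy m F) : Kd m F := by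
  unfold EtAcycX.Kd
  refine Sheaf.hom_ext (NatTrans.ext (funext fun U => AddCommGrpCat.ext fun x => ?_))
  exact (nsmulId_app F U.unop x m).trans (h U.unop x)

theorem exists_constructible_epi [CompactSpace X] [QuasiSeparatedSpace X] [CompactSpace Y] [QuasiSeparatedSpace Y]
    {m : ℕ} (hm : 0 < m) {F : EtCoh.Ab Y} (hk : Kd m F) (hF : EtPBC.IsConstructible ((EtCoh.pull f).obj F)) :
    ∃ (P : EtCoh.Ab Y) (π : P ⟶ F), EtPBC.IsConstructible P ∧ Epi π := by
  have ht : EtCoh.IsTorsion F := fun V r v => ⟨V, 𝟙 V, ⟨v, rfl⟩, isOfFinAddOrder_iff_nsmul_eq_zero.2 ⟨m, hm, by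
    rw [← nsmulId_app F V _ m, hk]; rfl⟩⟩
  obtain ⟨J, _, _, D, c, hc, hD, ⟨e⟩⟩ := Groth.Agent.S0134.result Y F ht
  haveI := (EtCoh.pullPushAdj f).leftAdjoint_preservesColimits.{u + 1, u + 1}
  have hc' := isColimitOfPreserves (EtCoh.pull f) hc
  obtain ⟨j, β, hβ⟩ := EtCons.Big.exists_lift_of_constructible (hc := hc') (hF := hF) ((EtCoh.pull f).map e.inv)
  refine ⟨D.obj j, c.ι.app j ≫ e.hom, hD j, ?_⟩
  haveI : IsSplitEpi ((EtCoh.pull f).map (c.ι.app j ≫ e.hom)) := ⟨⟨β, by
    rw [Functor.map_comp, ← Category.assoc]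
    refine (congrArg (· ≫ (EtCoh.pull f).map e.hom) hβ).trans ?_
    rw [← Functor.map_comp, e.inv_hom_id, CategoryTheory.Functor.map_id]⟩⟩
  exact epi_of_epi_pull f _

theorem isConstructible_of_pull [CompactSpace X] [QuasiSeparatedSpace X] [CompactSpace Y] [QuasiSeparatedSpace Y]
    [EtCoh.BCCont f] {F : EtCoh.Ab Y} (hF : EtPBC.IsConstructible ((EtCoh.pull f).obj F)) :
    EtPBC.IsConstructible F := by
  haveI := EtPullExact.pull_preservesFiniteLimits f
  obtain ⟨m, hm, hm'⟩ := EtCons.exists_killedBy _ hF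
  have hk : Kd m F := by
    unfold EtAcycX.Kd
    refine eq_of_pull_eq f ?_
    rw [Functor.map_nsmul, CategoryTheory.Functor.map_id, Functor.map_zero]
    exact kd_of_killedBy hm'
  obtain ⟨P, π, hP, hπ⟩ := exists_constructible_epi f hm hk hF
  obtain ⟨n, hn, hn'⟩ := EtCons.exists_killedBy P hP
  have hK : Kd n (kernel π) := by
    unfold EtAcycX.Kd
    rw [← cancel_mono (kernel.ι π), Preadditive.nsmul_comp, Category.id_comp, zero_comp,
      ← Category.comp_id (kernel.ι π), ← Preadditive.comp_nsmul, kd_of_killedBy hn', comp_zero]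
  have hKc : EtPBC.IsConstructible ((EtCoh.pull f).obj (kernel π)) :=
    EtCons.isConstructible_of_iso (PreservesKernel.iso (EtCoh.pull f) π).symm
      (EtCons.isConstructible_kernel_cokernel ((EtCoh.pull f).map π) (Groth.Agent.S0127.result f P hP) hF).1
  obtain ⟨R, ρ, hR, hρ⟩ := exists_constructible_epi f hn hK hKc
  haveI := hρ
  haveI := hπ
  have hex : (ShortComplex.mk (kernel.ι π) π (kernel.condition π)).Exact :=
    ShortComplex.exact_of_f_is_kernel _ (kernelIsKernel π)
  haveI : Epi (ShortComplex.mk (kernel.ι π) π (kernel.condition π)).g := hπ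
  let i : cokernel (ρ ≫ kernel.ι π) ≅ F :=
    (cokernelEpiComp ρ (kernel.ι π)) ≪≫ (cokernelIsCokernel _).coconePointUniqueUpToIso hex.gIsCokernel
  exact EtCons.isConstructible_of_iso i (EtCons.isConstructible_kernel_cokernel _ hR hP).2

end Groth.Agent.EtTrace
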