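import Groth.Agent.EtIntegral.StalkFinite
import Groth.Agent.Weighting.LengthWeight
import Groth.Agent.Weighting.Main
import Mathlib

/-!
Multiplicities of geometric points in the fibres of finite flat morphisms.
-/

set_option autoImplicit false
set_option backward.isDefEq.respectTransparency false
set_option linter.style.haveILetI false
universe u

open CategoryTheory CategoryTheory.Limits AlgebraicGeometry IsLocalRing

noncomputable section

namespace Groth.Agent.EtTrace

open Groth.Agent.Weighting (pt L Fib lengthWeight)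
open Groth.Agent.EtIntegral (Lifts)

variable {X Y S : Scheme.{u}} {Ω : Type u} [Field Ω]

/-- The multiplicity of a geometric point in its fibre. -/
def deg (f : X ⟶ S) (ξ : Spec (CommRingCat.of Ω) ⟶ X) : ℤ := lengthWeight f (pt ξ)

theorem pt_default (ξ : Spec (CommRingCat.of Ω) ⟶ X) : ξ (default : Spec (CommRingCat.of Ω)) = pt ξ :=
  Weighting.apply_eq_pt ξ _

theorem fibreLength_comp (h : X ⟶ Y) [Flat h] (g : Y ⟶ S) (x : X) :
    Weighting.fibreLength (h ≫ g) x = Weighting.fibreLength g (h x) * Weighting.fibreLength h x := by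
  algebraize [(h.stalkMap x).hom]
  haveI : IsLocalHom (algebraMap (Y.presheaf.stalk (h x)) (X.presheaf.stalk x)) :=
    inferInstanceAs <| IsLocalHom (h.stalkMap x).hom
  haveI : Module.Flat (Y.presheaf.stalk (h x)) (X.presheaf.stalk x) := Flat.stalkMap h x
  let A := S.presheaf.stalk (g (h x))
  let B := Y.presheaf.stalk (h x)
  let C := X.presheaf.stalk x
  let I : Ideal B := (maximalIdeal A).map (g.stalkMap (h x)).hom
  have hI : Ideal.map ((h ≫ g).stalkMap x).hom (maximalIdeal _) = I.map (algebraMap B C) := by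
    rw [Scheme.Hom.stalkMap_comp]
    exact (Ideal.map_map _ _).symm
  have e := IsLocalRing.length_baseChange B C (B ⧸ I)
  show Module.length C (C ⧸ Ideal.map ((h ≫ g).stalkMap x).hom (maximalIdeal _)) = _
  rw [hI]
  exact ((Algebra.TensorProduct.quotIdealMapEquivTensorQuot C I).toLinearEquiv.length_eq).trans e

theorem deg_comp (h : X ⟶ Y) (g : Y ⟶ S) [IsFinite h] [Flat h] [IsFinite g]
    (ξ : Spec (CommRingCat.of Ω) ⟶ X) :
    deg (h ≫ g) ξ = deg h ξ * deg g (ξ ≫ h) := by
  unfold deg lengthWeight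
  rw [fibreLength_comp, Weighting.insepDeg_comp h g (pt ξ) (Weighting.finite_residueFieldMap g _), ENat.toNat_mul,
    Weighting.pt_comp, Nat.cast_mul, Nat.cast_mul]
  ring

variable [IsAlgClosed Ω]

theorem deg_eq_finrank (f : X ⟶ S) [IsFinite f] [Flat f] {V : Scheme.{u}} (g : V ⟶ S) [Etale g]
    (W : (pullback f g).Opens) [IsFinite (W.ι ≫ pullback.snd f g)] (v : Spec (CommRingCat.of Ω) ⟶ V)
    (x : Spec (CommRingCat.of Ω) ⟶ X) (hW : L W v = {x}) :
    deg f x = ((W.ι ≫ pullback.snd f g).finrank (pt v) : ℤ) := by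
  let π := W.ι ≫ pullback.snd f g
  haveI : Etale (pullback.fst f g) := inferInstance
  haveI : LocallyQuasiFinite g := Weighting.locallyQuasiFinite_of_etale g
  have hw : (fun u => lengthWeight f (pullback.fst f g (W.ι u))) = lengthWeight π := funext fun u =>
    (Weighting.lengthWeight_square (W.ι ≫ pullback.fst f g) g f π (by simp [π, pullback.condition]) u).symm
  have h1 := Weighting.fibreIntegral_eq_L W (lengthWeight f) v
  rw [hW, finsum_mem_singleton, hw, Weighting.fibreIntegral_lengthWeight π] at h1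
  exact h1.symm

theorem deg_baseChange {X' S' : Scheme.{u}} (f : X ⟶ S) [IsFinite f] [Flat f]
    (f' : X' ⟶ S') [IsFinite f'] [Flat f'] (g : S' ⟶ S) (g' : X' ⟶ X) (hc : IsPullback g' f' f g)
    (ξ' : Spec (CommRingCat.of Ω) ⟶ X') : deg f' ξ' = deg f (ξ' ≫ g') := by
  obtain ⟨V, gV, hgV, v, W, hv, hWfin, hWL⟩ := Weighting.exists_chart f (ξ' ≫ g')
  haveI := hgV
  haveI := hWfin
  rw [deg_eq_finrank f gV W v _ hWL]
  let V' := pullback gV g
  let a := pullback.fst gV g
  let b := pullback.snd gV g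
  haveI : Etale b := MorphismProperty.pullback_snd _ _ hgV
  let v' : Spec (CommRingCat.of Ω) ⟶ V' := pullback.lift v (ξ' ≫ f') (by
    rw [hv, Category.assoc, hc.w, Category.assoc])
  let W₁ : (pullback f (b ≫ g)).Opens := Weighting.bc a pullback.condition W
  let e : pullback f' b ≅ pullback f (b ≫ g) := ((IsPullback.of_hasPullback f' b).paste_horiz hc).isoPullback
  have he1 : e.hom ≫ pullback.fst f (b ≫ g) = pullback.fst f' b ≫ g' := IsPullback.isoPullback_hom_fst _
  have he2 : e.hom ≫ pullback.snd f (b ≫ g) = pullback.snd f' b := IsPullback.isoPullback_hom_snd _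
  let W' : (pullback f' b).Opens := e.hom ⁻¹ᵁ W₁
  have hW' : W'.ι ≫ pullback.snd f' b = (e.hom ∣_ W₁) ≫ W₁.ι ≫ pullback.snd f (b ≫ g) := by
    rw [morphismRestrict_ι_assoc, he2]
  haveI hW₁fin : IsFinite (W₁.ι ≫ pullback.snd f (b ≫ g)) := Weighting.isFinite_bc _ _ hWfin
  haveI : IsFinite (W'.ι ≫ pullback.snd f' b) := by rw [hW']; infer_instance
  have hW₁L : L W₁ v' = {ξ' ≫ g'} := by rw [Weighting.L_bc, pullback.lift_fst, hWL]
  have hW'L : L W' v' = {ξ'} := by
    ext x
    rw [Set.mem_singleton_iff, Weighting.mem_L_iff]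
    have key : ∀ (h : x ≫ f' = v' ≫ b) (h' : (x ≫ g') ≫ f = v' ≫ b ≫ g),
        pullback.lift x v' h ≫ e.hom = pullback.lift (x ≫ g') v' h' := by
      intro h h'
      apply pullback.hom_ext
      · rw [Category.assoc, he1, pullback.lift_fst_assoc, pullback.lift_fst]
      · rw [Category.assoc, he2, pullback.lift_snd, pullback.lift_snd]
    constructor
    · rintro ⟨h, hp⟩
      have h' : (x ≫ g') ≫ f = v' ≫ b ≫ g := by rw [Category.assoc, hc.w, reassoc_of% h]
      have hm : x ≫ g' ∈ L W₁ v' := by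
        refine Weighting.mem_L_iff.2 ⟨h', ?_⟩
        rw [← key h h']
        exact hp
      rw [hW₁L, Set.mem_singleton_iff] at hm
      exact hc.hom_ext hm (h.trans (pullback.lift_snd _ _ _))
    · rintro rfl
      have hm : x ≫ g' ∈ L W₁ v' := hW₁L ▸ rfl
      obtain ⟨h', hp⟩ := Weighting.mem_L_iff.1 hm
      refine ⟨(pullback.lift_snd _ _ _).symm, ?_⟩
      show e.hom (pt (pullback.lift x v' _)) ∈ W₁
      rw [← Weighting.pt_comp, key _ h']
      exact hp
  rw [deg_eq_finrank f' b W' v' ξ' hW'L]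
  haveI : Flat (pullback.snd f gV) := MorphismProperty.pullback_snd _ _ inferInstance
  haveI : Flat (pullback.snd f (b ≫ g)) := MorphismProperty.pullback_snd _ _ inferInstance
  have h2 := Scheme.Hom.finrank_of_isPullback _ _ _ _
    (Weighting.isPullback_bc (f := f) a (pullback.condition : a ≫ gV = b ≫ g) W) (pt v')
  rw [show a (pt v') = pt v by rw [← Weighting.pt_comp, pullback.lift_fst]] at h2
  rw [← h2]
  congr 1
  simp only [hW']
  rw [Scheme.Hom.finrank_comp_left_of_isIso]

theorem deg_of_iso (e : X ⟶ S) [IsIso e] (ξ : Spec (CommRingCat.of Ω) ⟶ X) : deg e ξ = 1 := by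
  unfold deg lengthWeight
  rw [Weighting.insepDeg_eq_one, Nat.cast_one, mul_one]
  have h1 : Weighting.fibreLength e (pt ξ) = 1 := by
    unfold Weighting.fibreLength
    rw [Weighting.map_stalk_maximalIdeal]
    exact Module.length_eq_one_iff.2 ((isSimpleModule_iff_isCoatom).2 (Ideal.isMaximal_def.1 (maximalIdeal.isMaximal _)))
  rw [h1]
  rfl

/-- The multiplicities add up to the rank. -/
theorem sum_deg (f : X ⟶ S) [IsFinite f] [Flat f] (η : Spec (CommRingCat.of Ω) ⟶ S) :
    ∑ᶠ ξ : Lifts f η, deg f ξ.1 = (f.finrank (pt η) : ℤ) := by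
  rw [← Weighting.fibreIntegral_lengthWeight f (pt η),
    Weighting.fibreIntegral_eq f _ η (Scheme.Hom.finite_preimage_singleton _ _)]
  exact finsum_subtype_eq_finsum_cond (f := fun ξ : Spec (CommRingCat.of Ω) ⟶ X => lengthWeight f (pt ξ)) _

end Groth.Agent.EtTrace
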