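import Groth.Agent.EtTrace.Axioms
import Mathlib

/-!
Morphisms with at most one geometric point in each fibre.
-/

set_option autoImplicit false
set_option backward.isDefEq.respectTransparency false
set_option linter.style.haveILetI false
set_option maxHeartbeats 1000000
universe u

open CategoryTheory CategoryTheory.Limits AlgebraicGeometry Opposite

noncomputable section

namespace Groth.Agent.EtTrace

open Groth.Agent.EtIntegral (Lifts stalkPushLift)
open Groth.Agent.Weighting (pt pt_comp)

variable {X Y S : Scheme.{u}}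

theorem stalk_unit_comp (f : X ⟶ S) [IsFinite f] {Ω : Type u} [Field Ω] [IsSepClosed Ω] [IsAlgClosed Ω]
    (η : Spec (CommRingCat.of Ω) ⟶ S) [Subsingleton (Lifts f η)] (F : EtCoh.Ab S) (ξ : Lifts f η)
    (z : (EtCoh.stalk η).obj ((EtCoh.push f).obj ((EtCoh.pull f).obj F))) :
    (EtCoh.stalk η).map ((EtCoh.pullPushAdj f).unit.app F) (comp f η F ξ z) = z := by
  refine (Groth.Agent.EtIntegral.bijective_stalkPushLifts f η ((EtCoh.pull f).obj F)).1 (funext fun ξ' => ?_)
  obtain rfl : ξ' = ξ := Subsingleton.elim _ _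
  exact ((comp_eq_iff f η F ξ' _ _).1 (comp_unit f η F ξ' _)).symm.trans ((comp_eq_iff f η F ξ' z _).1 rfl)

theorem epi_unit_of_subsingleton (f : X ⟶ S) [IsFinite f]
    (hL : ∀ (Ω : Type u) [Field Ω] [IsAlgClosed Ω] (η : Spec (CommRingCat.of Ω) ⟶ S), Subsingleton (Lifts f η))
    (F : EtCoh.Ab S) : Epi ((EtCoh.pullPushAdj f).unit.app F) := by
  refine ⟨fun {G} a b hab => hom_ext_stalk a b fun Ω _ _ _ η z => ?_⟩
  haveI := hL Ω η
  rcases isEmpty_or_nonempty (Lifts f η) with hE | hN
  · have hz : z = 0 := Groth.Agent.EtIntegral.eq_zero_of_lifts f η _ z fun ξ => (hE.false ξ).elim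
    subst hz
    exact (map_zero _).trans (map_zero _).symm
  · obtain ⟨ξ⟩ := hN
    have hz := stalk_unit_comp f η F ξ z
    generalize comp f η F ξ z = c at hz
    subst hz
    exact (stalk_comp_apply _ a η c).symm.trans
      ((congrArg (fun m => (EtCoh.stalk η).map m c) hab).trans (stalk_comp_apply _ b η c))

end Groth.Agent.EtTrace
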