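import Groth.Agent.EtTrace.Local
import Mathlib

/-!
The trace of a finite flat morphism.
-/

set_option autoImplicit false
set_option backward.isDefEq.respectTransparency false
set_option linter.style.haveILetI false
set_option maxHeartbeats 1000000
universe u

open CategoryTheory CategoryTheory.Limits AlgebraicGeometry Opposite

noncomputable section

namespace Groth.Agent.EtTrace

open Groth.Agent.EtIntegral (Lifts)
open Groth.Agent.Weighting (pt)

variable {X S : Scheme.{u}} (f : X ⟶ S) [IsFinite f] [Flat f] [LocallyOfFinitePresentation f]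

abbrev PP (F : EtCoh.Ab S) : EtCoh.Ab S := (EtCoh.push f).obj ((EtCoh.pull f).obj F)

theorem exists_good (F : EtCoh.Ab S) (V : S.Etale) (a : EtCoh.sect (PP f F) V) : ∃ b, Good f F V a b := by
  classical
  let R : Sieve V :=
    { arrows := fun W g => ∃ b, Good f F W ((PP f F).obj.map g.op a) b
      downward_closed := by
        rintro Y Z g ⟨b, hb⟩ k
        refine ⟨F.obj.map k.op b, ?_⟩
        rw [op_comp, Functor.map_comp, ConcreteCategory.comp_apply]
        exact hb.map f k }
  have hR : R ∈ S.smallEtaleTopology V :=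
    Groth.Agent.EtStalk.mem_of_covers (Groth.Agent.EtIntegral.covers_algClosed S) _ fun Ω _ _ η hΩ x => by
      haveI := hΩ
      obtain ⟨V', j, v', hj, b, hb⟩ := exists_good_nhd f F V a η x
      exact ⟨V', j, ⟨b, hb⟩, v', hj⟩
  have hF := (isSheaf_iff_isSheaf_of_type _ _).mp
    ((sheafCompose S.smallEtaleTopology (forget AddCommGrpCat.{u + 1})).obj F).property R hR
  let fam : Presieve.FamilyOfElements
      ((sheafCompose S.smallEtaleTopology (forget AddCommGrpCat.{u + 1})).obj F).obj R.arrows :=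
    fun W g hg => hg.choose
  have hfam : ∀ {W : S.Etale} (g : W ⟶ V) (hg : R.arrows g), Good f F W ((PP f F).obj.map g.op a) (fam g hg) :=
    fun g hg => hg.choose_spec
  have hc : fam.Compatible := by
    intro Y₁ Y₂ Z g₁ g₂ f₁ f₂ h₁ h₂ e
    refine Good.unique f (a := (PP f F).obj.map (g₁ ≫ f₁).op a) ?_ ?_
    · rw [op_comp, Functor.map_comp, ConcreteCategory.comp_apply]
      exact (hfam f₁ h₁).map f g₁
    · rw [e, op_comp, Functor.map_comp, ConcreteCategory.comp_apply]
      exact (hfam f₂ h₂).map f g₂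
  refine ⟨hF.amalgamate fam hc, fun Ω _ _ _ η v => ?_⟩
  obtain ⟨V', j, v', hj, b, hb⟩ := exists_good_nhd f F V a η v
  have h1 : F.obj.map j.op (hF.amalgamate fam hc) = b := by
    refine Eq.trans ?_ ((hfam j ⟨b, hb⟩).unique f hb)
    exact hF.valid_glue hc j ⟨b, hb⟩
  rw [← hj, ← germ_map, ← germ_map, h1]
  exact hb Ω η v'

/-- the trace of a section -/
def trSect (F : EtCoh.Ab S) (V : S.Etale) (a : EtCoh.sect (PP f F) V) : EtCoh.sect F V :=
  (exists_good f F V a).choose

theorem trSect_spec (F : EtCoh.Ab S) (V : S.Etale) (a : EtCoh.sect (PP f F) V) : Good f F V a (trSect f F V a) :=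
  (exists_good f F V a).choose_spec

theorem trSect_add (F : EtCoh.Ab S) (V : S.Etale) (a a' : EtCoh.sect (PP f F) V) :
    trSect f F V (a + a') = trSect f F V a + trSect f F V a' := by
  refine (trSect_spec f F V (a + a')).unique f fun Ω _ _ _ η v => ?_
  refine Eq.trans ?_ (map_add _ _ _).symm
  refine (congrArg (φ f η F) (map_add _ a a')).trans ?_
  rw [φ_add]
  exact congrArg₂ (· + ·) (trSect_spec f F V a Ω η v) (trSect_spec f F V a' Ω η v)

/-- the trace -/
def trApp (F : EtCoh.Ab S) : PP f F ⟶ F :=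
  ⟨{ app := fun V => AddCommGrpCat.ofHom (AddMonoidHom.mk' (trSect f F V.unop) (trSect_add f F V.unop))
     naturality := fun V W j => by
       ext a
       exact (trSect_spec f F W.unop _).unique f ((trSect_spec f F V.unop a).map f j.unop) }⟩

theorem stalk_trApp (F : EtCoh.Ab S) {Ω : Type u} [Field Ω] [IsSepClosed Ω] [IsAlgClosed Ω]
    (η : Spec (CommRingCat.of Ω) ⟶ S) (z : (EtCoh.stalk η).obj (PP f F)) :
    (EtCoh.stalk η).map (trApp f F) z = φ f η F z := by
  obtain ⟨V, v, a, rfl⟩ := exists_germ z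
  rw [germ_app]
  exact (trSect_spec f F V a Ω η v).symm

omit [IsFinite f] [Flat f] [LocallyOfFinitePresentation f] in
theorem hom_ext_stalk {F G : EtCoh.Ab S} (a b : F ⟶ G)
    (h : ∀ (Ω : Type u) [Field Ω] [IsSepClosed Ω] [IsAlgClosed Ω] (η : Spec (CommRingCat.of Ω) ⟶ S)
      (z : (EtCoh.stalk η).obj F), (EtCoh.stalk η).map a z = (EtCoh.stalk η).map b z) : a = b := by
  refine Sheaf.hom_ext (NatTrans.ext (funext fun V => ?_))
  ext s
  refine sect_eq_of_germs G (V := V.unop) _ _ fun Ω _ _ _ η v => ?_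
  refine (germ_app a V.unop v s).symm.trans ((h Ω η _).trans (germ_app b V.unop v s))

/-- the trace as a natural transformation -/
def tr : EtCoh.pull f ⋙ EtCoh.push f ⟶ 𝟭 (EtCoh.Ab S) where
  app F := trApp f F
  naturality F G m := by
    refine hom_ext_stalk _ _ fun Ω _ _ _ η z => ?_
    rw [Functor.map_comp, Functor.map_comp, ConcreteCategory.comp_apply, ConcreteCategory.comp_apply]
    refine (stalk_trApp f G η _).trans ((φ_natural f η m z).trans ?_)
    exact congrArg _ (stalk_trApp f F η z).symm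

theorem stalk_tr (F : EtCoh.Ab S) {Ω : Type u} [Field Ω] [IsSepClosed Ω] [IsAlgClosed Ω]
    (η : Spec (CommRingCat.of Ω) ⟶ S) (z : (EtCoh.stalk η).obj (PP f F)) :
    (EtCoh.stalk η).map ((tr f).app F) z = φ f η F z :=
  stalk_trApp f F η z

/-- normalisation -/
theorem unit_tr (n : ℕ) (hn : ∀ s : S, f.finrank s = n) (F : EtCoh.Ab S) :
    (EtCoh.pullPushAdj f).unit.app F ≫ (tr f).app F = n • 𝟙 F := by
  refine hom_ext_stalk _ _ fun Ω _ _ _ η z => ?_
  rw [Functor.map_comp, ConcreteCategory.comp_apply]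
  refine (stalk_tr f F η _).trans ?_
  rw [φ_unit, hn]
  obtain ⟨V, v, t, rfl⟩ := exists_germ z
  rw [germ_app]
  refine Eq.trans (map_nsmul _ n t).symm (congrArg (germ V v) ?_)
  clear hn
  induction n with
  | zero => simp
  | succ k ih => rw [succ_nsmul, succ_nsmul, ih]; rfl

end Groth.Agent.EtTrace
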