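import Groth.Agent.EtTrace.Point
import Mathlib

/-!
Local existence of the trace of a section.
-/

set_option autoImplicit false
set_option backward.isDefEq.respectTransparency false
set_option linter.style.haveILetI false
set_option linter.auxLemma false
set_option maxHeartbeats 1000000
universe u

open CategoryTheory CategoryTheory.Limits AlgebraicGeometry Opposite

noncomputable section

namespace Groth.Agent.EtTrace

open Groth.Agent.EtIntegral (Lifts stalkPushLift exists_section_pointed)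
open Groth.Agent.Weighting (pt L pt_comp mem_L_iff lengthWeight)

variable {X S : Scheme.{u}} (f : X ⟶ S) [IsFinite f]

/-- `b` is the trace of `a` at all geometric points. -/
def Good (F : EtCoh.Ab S) (V : S.Etale) (a : EtCoh.sect ((EtCoh.push f).obj ((EtCoh.pull f).obj F)) V)
    (b : EtCoh.sect F V) : Prop :=
  ∀ (Ω : Type u) [Field Ω] [IsSepClosed Ω] [IsAlgClosed Ω] (η : Spec (CommRingCat.of Ω) ⟶ S)
    (v : Over.mk η ⟶ (Scheme.Etale.forget S).obj V), φ f η F (germ V v a) = germ V v b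

omit [IsFinite f] in
theorem sect_eq_of_germs (F : EtCoh.Ab S) {V : S.Etale} (s t : EtCoh.sect F V)
    (h : ∀ (Ω : Type u) [Field Ω] [IsSepClosed Ω] [IsAlgClosed Ω] (η : Spec (CommRingCat.of Ω) ⟶ S)
      (v : Over.mk η ⟶ (Scheme.Etale.forget S).obj V), germ V v s = germ V v t) : s = t := by
  rw [← sub_eq_zero]
  refine Groth.Agent.EtSect.eq_zero_of_cover F _ fun p => ?_
  obtain ⟨Ω, _, _, ξ, hΩ, hξ⟩ := Groth.Agent.EtIntegral.covers_algClosed (V.left) p
  haveI := hΩ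
  let v : Over.mk (ξ ≫ V.hom) ⟶ (Scheme.Etale.forget S).obj V := Over.homMk ξ rfl
  have h0 : germ V v (s - t) = 0 := by
    exact (map_sub _ s t).trans (sub_eq_zero.2 (h Ω _ v))
  have h1 := (Groth.Agent.EtPushStalk.germ_eq_zero_iff F _ V v (s - t)).1 h0
  obtain ⟨W, g, hg, h2⟩ := (Groth.Agent.EtSect.mem_iff F (s - t) _).1 h1
  exact ⟨W, g, hξ ▸ hg, h2⟩

theorem Good.unique {F : EtCoh.Ab S} {V : S.Etale} {a} {b b' : EtCoh.sect F V}
    (h : Good f F V a b) (h' : Good f F V a b') : b = b' :=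
  sect_eq_of_germs F b b' fun Ω _ _ _ η v => (h Ω η v).symm.trans (h' Ω η v)

theorem Good.map {F : EtCoh.Ab S} {V W : S.Etale} (j : W ⟶ V) {a} {b : EtCoh.sect F V} (h : Good f F V a b) :
    Good f F W (((EtCoh.push f).obj ((EtCoh.pull f).obj F)).obj.map j.op a) (F.obj.map j.op b) := by
  intro Ω _ _ _ η w
  rw [germ_map, germ_map]
  exact h Ω η _

variable [Flat f] [LocallyOfFinitePresentation f]

/-- The trace of a section exists locally. -/
theorem exists_good_nhd (F : EtCoh.Ab S) (V : S.Etale)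
    (a : EtCoh.sect ((EtCoh.push f).obj ((EtCoh.pull f).obj F)) V) {Ω : Type u} [Field Ω] [IsSepClosed Ω]
    [IsAlgClosed Ω] (η : Spec (CommRingCat.of Ω) ⟶ S) (v : Over.mk η ⟶ (Scheme.Etale.forget S).obj V) :
    ∃ (V' : S.Etale) (j : V' ⟶ V) (v' : Over.mk η ⟶ (Scheme.Etale.forget S).obj V'),
      v' ≫ (Scheme.Etale.forget S).map j = v ∧
        ∃ b, Good f F V' (((EtCoh.push f).obj ((EtCoh.pull f).obj F)).obj.map j.op a) b := by
  classical
  haveI hlifts := finite_lifts' f η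
  let G := (EtCoh.pull f).obj F
  let P := (EtCoh.push f).obj G
  -- representatives on one neighbourhood
  have hrep : ∀ ξ : Lifts f η, ∃ (W : S.Etale) (w : Over.mk η ⟶ (Scheme.Etale.forget S).obj W)
      (t : EtCoh.sect F W), germ W w t = comp f η F ξ (germ V v a) := fun ξ => exists_germ _
  choose W₀ w₀ t₀ ht₀ using hrep
  haveI := (Scheme.pointSmallEtale η).isCofiltered
  let El := (Scheme.pointSmallEtale η).fiber.Elements
  let o : Option (Lifts f η) → El := fun i => i.elim ⟨V, v⟩ fun ξ => ⟨W₀ ξ, w₀ ξ⟩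
  letI := Fintype.ofFinite (Lifts f η)
  obtain ⟨W', hW'⟩ := IsCofiltered.inf_objs_exists ((Finset.univ : Finset (Option (Lifts f η))).image o)
  have hto : ∀ i, Nonempty (W' ⟶ o i) := fun i => hW' (Finset.mem_image_of_mem o (Finset.mem_univ i))
  let W : S.Etale := W'.1
  let w : Over.mk η ⟶ (Scheme.Etale.forget S).obj W := W'.2
  let j : W ⟶ V := (hto none).some.1
  have hj : w ≫ (Scheme.Etale.forget S).map j = v := (hto none).some.2
  let t : Lifts f η → EtCoh.sect F W := fun ξ => F.obj.map (hto (some ξ)).some.1.op (t₀ ξ)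
  have ht : ∀ ξ, germ W w (t ξ) = comp f η F ξ (germ V v a) := fun ξ => by
    rw [germ_map]
    refine Eq.trans (congrArg (fun x => germ (W₀ ξ) x (t₀ ξ)) (hto (some ξ)).some.2) (ht₀ ξ)
  let a₁ : EtCoh.sect P W := P.obj.map j.op a
  let B : X.Etale := (EtCoh.bc f).obj W
  let u : ∀ ξ, EtCoh.sect G B := fun ξ => ((EtCoh.pullPushAdj f).unit.app F).hom.app (op W) (t ξ)
  have hgerm : ∀ ξ, germ B (upL f ξ w) (u ξ) = germ (F := G) B (upL f ξ w) a₁ := fun ξ => by
    refine (germ_pullLift f η F ξ W w (t ξ)).symm.trans (Eq.trans ?_ (germ_pushLift f η G ξ W w a₁))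
    rw [← comp_eq_iff, ht]
    refine congrArg (comp f η F ξ) ?_
    rw [germ_map, hj]
  have hT : ∀ ξ, ∃ (T : X.Etale) (g : T ⟶ B) (y : Over.mk ξ.1 ⟶ (Scheme.Etale.forget X).obj T),
      y ≫ (Scheme.Etale.forget X).map g = upL f ξ w ∧ G.obj.map g.op (u ξ) = G.obj.map g.op a₁ := fun ξ => by
    obtain ⟨T, g, y, hy, h⟩ := (GrothendieckTopology.Point.toPresheafFiber_eq_iff'
      (P := G.obj) (Scheme.pointSmallEtale ξ.1) B (upL f ξ w) (u ξ) a₁).mp (hgerm ξ)
    exact ⟨T, g, y, hy, h⟩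
  choose T g y hy hres using hT
  -- the finite map over `W`
  let fW : B.left ⟶ W.left := pullback.fst W.hom f
  haveI : IsFinite fW := MorphismProperty.pullback_fst _ _ ‹_›
  let η₁ : Spec (CommRingCat.of Ω) ⟶ W.left := w.left
  have hη₁ : η₁ ≫ W.hom = η := Over.w w
  let toLift : Lifts fW η₁ → Lifts f η := fun ζ => ⟨ζ.1 ≫ pullback.snd W.hom f, by
    rw [Category.assoc, ← pullback.condition, ← Category.assoc]
    exact (congrArg (· ≫ W.hom) ζ.2).trans hη₁⟩
  let TT : Scheme.{u} := ∐ fun ξ => (T ξ).left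
  let q : TT ⟶ B.left := Sigma.desc fun ξ => (g ξ).left
  have hq : ∀ ξ, Sigma.ι (fun ξ => (T ξ).left) ξ ≫ q = (g ξ).left := fun ξ => Sigma.ι_desc _ _
  haveI : Etale q := IsZariskiLocalAtSource.sigmaDesc fun ξ => Groth.Agent.EtSect.etale_left (g ξ)
  obtain ⟨V₁, p, hp, v₁, hv₁, s, hs, hspt⟩ := exists_section_pointed fW η₁ q
    (fun ζ => (y (toLift ζ)).left ≫ Sigma.ι (fun ξ => (T ξ).left) (toLift ζ)) (fun ζ => by
      rw [Category.assoc, hq]
      refine (congrArg CommaMorphism.left (hy (toLift ζ))).trans ?_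
      refine (upL_left f (toLift ζ) w).trans ?_
      apply pullback.hom_ext
      · rw [pullback.lift_fst]; exact ζ.2.symm
      · rw [pullback.lift_snd]; rfl)
  haveI := hp
  haveI : Etale W.hom := W.prop
  let V' : S.Etale := Scheme.Etale.mk (p ≫ W.hom)
  let j₁ : V' ⟶ W := MorphismProperty.Over.homMk p rfl
  let B' : X.Etale := (EtCoh.bc f).obj V'
  let κ : B'.left ⟶ pullback p fW := pullback.lift (pullback.fst (p ≫ W.hom) f) ((EtCoh.bc f).map j₁).left
    ((EtCoh.isPullback_bc_map f j₁).w.symm)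
  let σ : B'.left ⟶ TT := κ ≫ s
  have hσ : σ ≫ q = ((EtCoh.bc f).map j₁).left := by
    rw [Category.assoc, hs]; exact pullback.lift_snd _ _ _
  let σ' : pullback f (p ≫ W.hom) ⟶ TT := (pullbackSymmetry f (p ≫ W.hom)).hom ≫ σ
  let Q : Lifts f η → (pullback f (p ≫ W.hom)).Opens := fun ξ =>
    σ' ⁻¹ᵁ (Sigma.ι (fun ξ => (T ξ).left) ξ).opensRange
  have hQdisj : ∀ ξ ξ' c, c ∈ Q ξ → c ∈ Q ξ' → ξ = ξ' := fun ξ ξ' c hc hc' => by
    obtain ⟨x, hx⟩ := hc
    obtain ⟨x', hx'⟩ := hc'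
    exact congrArg Sigma.fst ((sigmaι_eq_iff (fun ξ => (T ξ).left) ξ ξ' x x').mp (hx.trans hx'.symm))
  have hQcover : ∀ c, ∃ ξ, c ∈ Q ξ := fun c => by
    obtain ⟨ξ, x, hx⟩ := (sigmaOpenCover fun ξ => (T ξ).left).exists_eq (σ' c)
    exact ⟨ξ, x, hx⟩
  haveI : Etale (p ≫ W.hom) := inferInstance
  haveI hQfin : ∀ ξ, IsFinite ((Q ξ).ι ≫ pullback.snd f (p ≫ W.hom)) := fun ξ => by
    haveI : IsFinite (pullback.snd f (p ≫ W.hom)) := MorphismProperty.pullback_snd _ _ ‹_›
    have hcl : IsClosed (Q ξ : Set ↥(pullback f (p ≫ W.hom))) := by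
      rw [← isOpen_compl_iff]
      have e : (Q ξ : Set ↥(pullback f (p ≫ W.hom)))ᶜ = ⋃ ξ' : {ξ' // ξ' ≠ ξ}, (Q ξ'.1 : Set ↥(pullback f (p ≫ W.hom))) := by
        ext c
        rw [Set.mem_compl_iff, Set.mem_iUnion]
        constructor
        · intro hc
          obtain ⟨ξ', h'⟩ := hQcover c
          exact ⟨⟨ξ', fun e => hc (e ▸ h')⟩, h'⟩
        · rintro ⟨⟨ξ', hne⟩, h'⟩ hc
          exact hne (hQdisj _ _ c h' hc)
      rw [e]
      exact isOpen_iUnion fun ξ' => (Q ξ'.1).isOpen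
    haveI : IsClosedImmersion (Q ξ).ι :=
      IsClosedImmersion.of_isPreimmersion _ (by rw [Scheme.Opens.range_ι]; exact hcl)
    infer_instance
  let v₀ : Over.mk η ⟶ (Scheme.Etale.forget S).obj V' := Over.homMk v₁ (by
    change v₁ ≫ p ≫ W.hom = η
    rw [reassoc_of% hv₁]; exact hη₁)
  have hv₀ : v₀ ≫ (Scheme.Etale.forget S).map j₁ = w := Over.OverMorphism.ext hv₁
  -- which piece a point belongs to
  have piece : ∀ (Ω' : Type u) [Field Ω'] [IsSepClosed Ω'] (η' : Spec (CommRingCat.of Ω') ⟶ S)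
      (v' : Over.mk η' ⟶ (Scheme.Etale.forget S).obj V') (ξ' : Lifts f η'),
      ∃ ξ, ξ'.1 ∈ L (Q ξ) v'.left ∧ ∀ ξ₂, ξ'.1 ∈ L (Q ξ₂) v'.left → ξ₂ = ξ := by
    intro Ω' _ _ η' v' ξ'
    have h0 : ξ'.1 ≫ f = v'.left ≫ p ≫ W.hom := ξ'.2.trans (Over.w v').symm
    obtain ⟨ξ, hξ⟩ := hQcover (pt (pullback.lift ξ'.1 v'.left h0))
    exact ⟨ξ, mem_L_iff.2 ⟨h0, hξ⟩, fun ξ₂ h₂ => hQdisj _ _ _ (mem_L_iff.1 h₂).choose_spec hξ⟩
  -- the base point lies in its own piece
  have base : ∀ ξ : Lifts f η, L (Q ξ) v₁ = {ξ.1} := by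
    have hmem : ∀ ξ : Lifts f η, ξ.1 ∈ L (Q ξ) v₁ := by
      intro ξ
      have h0 : ξ.1 ≫ f = v₁ ≫ p ≫ W.hom := by rw [reassoc_of% hv₁, hη₁]; exact ξ.2
      refine mem_L_iff.2 ⟨h0, ?_⟩
      let ζ : Lifts fW η₁ := ⟨pullback.lift η₁ ξ.1 (hη₁.trans ξ.2.symm), pullback.lift_fst _ _ _⟩
      have hζ : toLift ζ = ξ := Subtype.ext (pullback.lift_snd _ _ _)
      have e : pullback.lift ξ.1 v₁ h0 ≫ σ' = (y (toLift ζ)).left ≫ Sigma.ι (fun ξ => (T ξ).left) (toLift ζ) := by
        rw [← hspt ζ]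
        simp only [σ', σ, κ, ← Category.assoc]
        congr 1
        apply pullback.hom_ext
        · simp
        · rw [pullback.lift_snd]
          simp only [Category.assoc, pullback.lift_snd]
          apply pullback.hom_ext
          · simp only [Category.assoc]
            erw [(EtCoh.isPullback_bc_map f j₁).w]
            rw [pullback.lift_fst]
            erw [pullbackSymmetry_hom_comp_fst_assoc, pullback.lift_snd_assoc]
            exact hv₁
          · simp only [Category.assoc]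
            erw [show ((EtCoh.bc f).map j₁).left ≫ pullback.snd W.hom f = pullback.snd (p ≫ W.hom) f from
              MorphismProperty.Over.w ((EtCoh.bc f).map j₁)]
            simp [ζ]
      show σ' (pt (pullback.lift ξ.1 v₁ h0)) ∈ (Sigma.ι (fun ξ => (T ξ).left) ξ).opensRange
      rw [← pt_comp, e, hζ, pt_comp]
      exact ⟨_, rfl⟩
    intro ξ
    refine Set.Subset.antisymm (fun x hx => ?_) (Set.singleton_subset_iff.2 (hmem ξ))
    have hx' : x ≫ f = η := by
      rw [Weighting.comp_eq_of_mem_L hx, reassoc_of% hv₁, hη₁]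
    obtain ⟨ξ₀, -, huniq⟩ := piece Ω η v₀ ⟨x, hx'⟩
    rw [Set.mem_singleton_iff]
    have e1 := huniq ξ hx
    have e2 := huniq ⟨x, hx'⟩ (hmem _)
    exact (congrArg Subtype.val (e1.trans e2.symm)).symm
  -- the multiplicities are locally constant
  have hN : ∀ ξ, ∃ N : V₁.Opens, pt v₁ ∈ N ∧ ∀ (Ω' : Type u) [Field Ω'] [IsAlgClosed Ω']
      (v' : Spec (CommRingCat.of Ω') ⟶ V₁), pt v' ∈ N →
        ∑ᶠ x ∈ L (Q ξ) v', lengthWeight f (pt x) = deg f ξ.1 := fun ξ => by
    haveI := hQfin ξ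
    obtain ⟨N, hN, h⟩ := Weighting.exists_nhd_wsum_eq (Weighting.isWeighting_lengthWeight f) (Q ξ) v₁
    refine ⟨N, hN, fun Ω' _ _ v' hv' => (h Ω' v' hv').trans ?_⟩
    rw [base ξ, finsum_mem_singleton]
    rfl
  choose N hNmem hNsum using hN
  let O : V₁.Opens := ⟨⋂ ξ, (N ξ : Set V₁), isOpen_iInter_of_finite fun ξ => (N ξ).isOpen⟩
  have hO : pt v₁ ∈ O := Set.mem_iInter.2 hNmem
  let V'' : S.Etale := Scheme.Etale.mk (O.ι ≫ p ≫ W.hom)
  let j₂ : V'' ⟶ V' := MorphismProperty.Over.homMk O.ι rfl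
  have hr : Set.range v₁ ⊆ Set.range O.ι := by
    rw [Weighting.range_eq_pt, Scheme.Opens.range_ι, Set.singleton_subset_iff]; exact hO
  let v'' : Over.mk η ⟶ (Scheme.Etale.forget S).obj V'' := Over.homMk (IsOpenImmersion.lift O.ι v₁ hr) (by
    change IsOpenImmersion.lift O.ι v₁ hr ≫ O.ι ≫ p ≫ W.hom = η
    rw [IsOpenImmersion.lift_fac_assoc, reassoc_of% hv₁]; exact hη₁)
  refine ⟨V'', j₂ ≫ j₁ ≫ j, v'', ?_, ∑ ξ, deg f ξ.1 • F.obj.map (j₂ ≫ j₁).op (t ξ), ?_⟩
  · rw [← hj, ← hv₀]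
    simp only [Functor.map_comp, Category.assoc]
    refine Over.OverMorphism.ext ?_
    exact IsOpenImmersion.lift_fac_assoc O.ι v₁ hr _
  · intro Ω' _ _ _ η' v3
    let v' : Over.mk η' ⟶ (Scheme.Etale.forget S).obj V' := v3 ≫ (Scheme.Etale.forget S).map j₂
    have hv'O : pt v'.left ∈ O := by
      let vl : Spec (CommRingCat.of Ω') ⟶ O.toScheme := v3.left
      show pt (vl ≫ O.ι) ∈ O
      rw [pt_comp]
      exact (pt vl).2
    rw [germ_map]
    refine Eq.trans ?_ ((map_sum _ _ _).trans (Finset.sum_congr rfl fun ξ _ => map_zsmul _ _ _)).symm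
    haveI := finite_lifts' f η'
    letI := Fintype.ofFinite (Lifts f η')
    have hk := fun ξ' => (piece Ω' η' v' ξ').choose_spec
    let k : Lifts f η' → Lifts f η := fun ξ' => (piece Ω' η' v' ξ').choose
    have hcomp : ∀ ξ', comp f η' F ξ' (germ V (v3 ≫ (Scheme.Etale.forget S).map (j₂ ≫ j₁ ≫ j)) a) =
        germ V'' v3 (F.obj.map (j₂ ≫ j₁).op (t (k ξ'))) := by
      intro ξ'
      have ev : v3 ≫ (Scheme.Etale.forget S).map (j₂ ≫ j₁) = v' ≫ (Scheme.Etale.forget S).map j₁ := by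
        simp [v']
      rw [comp_eq_iff, germ_map, ev]
      refine (germ_pullLift f η' F ξ' W _ (t (k ξ'))).trans ?_
      have ev2 : v3 ≫ (Scheme.Etale.forget S).map (j₂ ≫ j₁ ≫ j) =
          (v' ≫ (Scheme.Etale.forget S).map j₁) ≫ (Scheme.Etale.forget S).map j := by
        simp [v']
      rw [ev2, ← germ_map]
      refine Eq.trans ?_ (germ_pushLift f η' G ξ' W _ a₁).symm
      -- the point factors through the piece
      obtain ⟨h0, hx⟩ := mem_L_iff.1 (hk ξ').1
      let l : Spec (CommRingCat.of Ω') ⟶ TT := pullback.lift ξ'.1 v'.left h0 ≫ σ'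
      have hlr : Set.range l ⊆ Set.range (Sigma.ι (fun ξ => (T ξ).left) (k ξ')) := by
        rw [Weighting.range_eq_pt, Set.singleton_subset_iff, pt_comp]
        exact hx
      let lT := IsOpenImmersion.lift (Sigma.ι (fun ξ => (T ξ).left) (k ξ')) l hlr
      have hlT : lT ≫ (g (k ξ')).left = (upL f ξ' (v' ≫ (Scheme.Etale.forget S).map j₁)).left := by
        rw [← hq, IsOpenImmersion.lift_fac_assoc]
        simp only [l, σ', Category.assoc, hσ]
        rw [← upL_map, ← Category.assoc]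
        refine congrArg (fun m => m ≫ ((EtCoh.bc f).map j₁).left) ?_
        apply pullback.hom_ext
        · rw [Category.assoc, pullbackSymmetry_hom_comp_fst, pullback.lift_snd]
          exact (pullback.lift_fst _ _ _).symm
        · rw [Category.assoc, pullbackSymmetry_hom_comp_snd, pullback.lift_fst]
          exact (pullback.lift_snd _ _ _).symm
      let yT : Over.mk ξ'.1 ⟶ (Scheme.Etale.forget X).obj (T (k ξ')) := Over.homMk lT (by
        change lT ≫ (T (k ξ')).hom = ξ'.1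
        rw [← MorphismProperty.Over.w (g (k ξ')), ← Category.assoc, hlT]
        exact Over.w (upL f ξ' (v' ≫ (Scheme.Etale.forget S).map j₁)))
      have eup : upL f ξ' (v' ≫ (Scheme.Etale.forget S).map j₁) = yT ≫ (Scheme.Etale.forget X).map (g (k ξ')) :=
        Over.OverMorphism.ext hlT.symm
      rw [eup, ← germ_map, ← germ_map]
      exact congrArg (germ _ yT) (hres (k ξ'))
    rw [φ_eq_sum, Finset.sum_congr rfl (fun ξ' _ => by rw [hcomp ξ']),
      ← Finset.sum_fiberwise Finset.univ k]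
    refine Finset.sum_congr rfl fun ξ _ => ?_
    rw [Finset.sum_congr rfl (g := fun ξ' => deg f ξ'.1 • germ V'' v3 (F.obj.map (j₂ ≫ j₁).op (t ξ)))
      (fun ξ' hξ' => by rw [(Finset.mem_filter.1 hξ').2]), ← Finset.sum_smul]
    congr 1
    rw [← hNsum ξ Ω' v'.left (Set.mem_iInter.1 hv'O ξ)]
    let emb : Lifts f η' ↪ (Spec (CommRingCat.of Ω') ⟶ X) := Function.Embedding.subtype _
    have hfin := Weighting.finite_L (Q ξ) v'.left
    rw [finsum_mem_eq_finite_toFinset_sum _ hfin]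
    have eset : hfin.toFinset = (Finset.univ.filter fun ξ' => k ξ' = ξ).map emb := by
      ext x
      rw [Set.Finite.mem_toFinset, Finset.mem_map]
      constructor
      · intro hx
        have hx' : x ≫ f = η' := (Weighting.comp_eq_of_mem_L hx).trans (Over.w v')
        exact ⟨⟨x, hx'⟩, Finset.mem_filter.2 ⟨Finset.mem_univ _, ((hk ⟨x, hx'⟩).2 ξ hx).symm⟩, rfl⟩
      · rintro ⟨ξ', hξ', rfl⟩
        rw [← (Finset.mem_filter.1 hξ').2]
        exact (hk ξ').1
    rw [eset, Finset.sum_map]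
    rfl

end Groth.Agent.EtTrace
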