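import Groth.Agent.EtTrace.Deg
import Groth.Agent.EtIntegral.BaseChange
import Mathlib

/-!
The trace of a finite flat morphism on stalks at geometric points.
-/

set_option autoImplicit false
set_option backward.isDefEq.respectTransparency false
set_option linter.style.haveILetI false
set_option maxHeartbeats 1000000
universe u

open CategoryTheory CategoryTheory.Limits AlgebraicGeometry Opposite

noncomputable section

namespace Groth.Agent.EtTrace

open Groth.Agent.EtIntegral (Lifts stalkPushLift)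
open Groth.Agent.Weighting (pt)

variable {X S : Scheme.{u}} {Ω : Type u} [Field Ω] [IsSepClosed Ω]

/-- The germ of a section at a pointed etale neighbourhood. -/
abbrev germ {F : EtCoh.Ab S} {η : Spec (CommRingCat.of Ω) ⟶ S} (V : S.Etale)
    (v : Over.mk η ⟶ (Scheme.Etale.forget S).obj V) (t : EtCoh.sect F V) : (EtCoh.stalk η).obj F :=
  (Scheme.pointSmallEtale η).toPresheafFiber V v F.obj t

theorem exists_germ {F : EtCoh.Ab S} {η : Spec (CommRingCat.of Ω) ⟶ S} (z : (EtCoh.stalk η).obj F) :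
    ∃ (V : S.Etale) (v : Over.mk η ⟶ (Scheme.Etale.forget S).obj V) (t : EtCoh.sect F V), germ V v t = z := by
  obtain ⟨V, v, t, h⟩ := (Scheme.pointSmallEtale η).toPresheafFiber_jointly_surjective (P := F.obj) z
  exact ⟨V, v, t, h⟩

theorem germ_map {F : EtCoh.Ab S} {η : Spec (CommRingCat.of Ω) ⟶ S} {V W : S.Etale} (j : W ⟶ V)
    (w : Over.mk η ⟶ (Scheme.Etale.forget S).obj W) (t : EtCoh.sect F V) :
    germ W w (F.obj.map j.op t) = germ V (w ≫ (Scheme.Etale.forget S).map j) t :=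
  GrothendieckTopology.Point.toPresheafFiber_w_apply (Scheme.pointSmallEtale η) j w F.obj t

theorem germ_app {F G : EtCoh.Ab S} (m : F ⟶ G) {η : Spec (CommRingCat.of Ω) ⟶ S} (V : S.Etale)
    (v : Over.mk η ⟶ (Scheme.Etale.forget S).obj V) (t : EtCoh.sect F V) :
    (EtCoh.stalk η).map m (germ V v t) = germ V v (m.hom.app (op V) t) :=
  GrothendieckTopology.Point.toPresheafFiber_naturality_apply (Scheme.pointSmallEtale η) m.hom V v t

/-- two germs at equal points -/
theorem germ_congr {F : EtCoh.Ab S} {η : Spec (CommRingCat.of Ω) ⟶ S} {V : S.Etale}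
    {v v' : Over.mk η ⟶ (Scheme.Etale.forget S).obj V} (h : v.left = v'.left) (t : EtCoh.sect F V) :
    germ V v t = germ V v' t := by rw [Over.OverMorphism.ext h]

/-- the point of the base change of a neighbourhood at a lift -/
def upL (f : X ⟶ S) {η : Spec (CommRingCat.of Ω) ⟶ S} (ξ : Lifts f η) {V : S.Etale}
    (v : Over.mk η ⟶ (Scheme.Etale.forget S).obj V) : Over.mk ξ.1 ⟶ (Scheme.Etale.forget X).obj ((EtCoh.bc f).obj V) :=
  Groth.Agent.EtPushStalk.up f ξ.1 (Over.homMk v.left ((Over.w v).trans ξ.2.symm))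

theorem upL_left (f : X ⟶ S) {η : Spec (CommRingCat.of Ω) ⟶ S} (ξ : Lifts f η) {V : S.Etale}
    (v : Over.mk η ⟶ (Scheme.Etale.forget S).obj V) :
    (upL f ξ v).left = pullback.lift v.left ξ.1 ((Over.w v).trans ξ.2.symm) := rfl

theorem upL_map (f : X ⟶ S) {η : Spec (CommRingCat.of Ω) ⟶ S} (ξ : Lifts f η) {V W : S.Etale} (j : V ⟶ W)
    (v : Over.mk η ⟶ (Scheme.Etale.forget S).obj V) :
    upL f ξ v ≫ (Scheme.Etale.forget X).map ((EtCoh.bc f).map j) =
      upL f ξ (v ≫ (Scheme.Etale.forget S).map j) := by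
  refine (Groth.Agent.EtPushStalk.up_map f ξ.1 j _).trans ?_
  exact Over.OverMorphism.ext rfl

theorem germ_pushLift (f : X ⟶ S) (η : Spec (CommRingCat.of Ω) ⟶ S) (G : EtCoh.Ab X) (ξ : Lifts f η) (V : S.Etale)
    (v : Over.mk η ⟶ (Scheme.Etale.forget S).obj V) (t : EtCoh.sect ((EtCoh.push f).obj G) V) :
    stalkPushLift f η G ξ (germ V v t) = germ ((EtCoh.bc f).obj V) (upL f ξ v) t :=
  Groth.Agent.EtIntegral.stalkPushLift_germ f η G ξ V v t

/-- pull back of a germ to a lift -/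
def pullLift (f : X ⟶ S) (η : Spec (CommRingCat.of Ω) ⟶ S) (F : EtCoh.Ab S) (ξ : Lifts f η) :
    (EtCoh.stalk η).obj F ⟶ (EtCoh.stalk ξ.1).obj ((EtCoh.pull f).obj F) :=
  eqToHom (by rw [ξ.2]) ≫ (Groth.Agent.EtStalk.stalkPullIso f ξ.1).hom.app F

instance (f : X ⟶ S) (η : Spec (CommRingCat.of Ω) ⟶ S) (F : EtCoh.Ab S) (ξ : Lifts f η) :
    IsIso (pullLift f η F ξ) := by
  unfold pullLift; infer_instance

theorem germ_pullLift (f : X ⟶ S) (η : Spec (CommRingCat.of Ω) ⟶ S) (F : EtCoh.Ab S) (ξ : Lifts f η) (V : S.Etale)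
    (v : Over.mk η ⟶ (Scheme.Etale.forget S).obj V) (t : EtCoh.sect F V) :
    pullLift f η F ξ (germ V v t) =
      germ ((EtCoh.bc f).obj V) (upL f ξ v) (((EtCoh.pullPushAdj f).unit.app F).hom.app (op V) t) := by
  obtain ⟨ξ, hξ⟩ := ξ
  subst hξ
  exact Groth.Agent.EtIntegral.stalkPullIso_germ f ξ F V v t

theorem pullLift_natural (f : X ⟶ S) (η : Spec (CommRingCat.of Ω) ⟶ S) {F G : EtCoh.Ab S} (m : F ⟶ G)
    (ξ : Lifts f η) (z : (EtCoh.stalk η).obj F) :
    pullLift f η G ξ ((EtCoh.stalk η).map m z) =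
      (EtCoh.stalk ξ.1).map ((EtCoh.pull f).map m) (pullLift f η F ξ z) := by
  obtain ⟨V, v, t, rfl⟩ := exists_germ z
  rw [germ_app, germ_pullLift, germ_pullLift, germ_app]
  exact congrArg (germ _ _) (ConcreteCategory.congr_hom
    (congr_app (congrArg (fun k => k.hom) ((EtCoh.pullPushAdj f).unit.naturality m)) (op V)) t)

theorem pushLift_natural (f : X ⟶ S) (η : Spec (CommRingCat.of Ω) ⟶ S) {F G : EtCoh.Ab X} (m : F ⟶ G)
    (ξ : Lifts f η) (z : (EtCoh.stalk η).obj ((EtCoh.push f).obj F)) :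
    stalkPushLift f η G ξ ((EtCoh.stalk η).map ((EtCoh.push f).map m) z) =
      (EtCoh.stalk ξ.1).map m (stalkPushLift f η F ξ z) :=
  ConcreteCategory.congr_hom (Groth.Agent.EtIntegral.stalkPushLift_natural f η m ξ) z

/-- The component at a lift. -/
def comp (f : X ⟶ S) (η : Spec (CommRingCat.of Ω) ⟶ S) (F : EtCoh.Ab S) (ξ : Lifts f η)
    (z : (EtCoh.stalk η).obj ((EtCoh.push f).obj ((EtCoh.pull f).obj F))) : (EtCoh.stalk η).obj F :=
  inv (pullLift f η F ξ) (stalkPushLift f η ((EtCoh.pull f).obj F) ξ z)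

theorem comp_eq_iff (f : X ⟶ S) (η : Spec (CommRingCat.of Ω) ⟶ S) (F : EtCoh.Ab S) (ξ : Lifts f η)
    (z : (EtCoh.stalk η).obj ((EtCoh.push f).obj ((EtCoh.pull f).obj F))) (c : (EtCoh.stalk η).obj F) :
    comp f η F ξ z = c ↔ pullLift f η F ξ c = stalkPushLift f η ((EtCoh.pull f).obj F) ξ z := by
  constructor
  · rintro rfl
    exact ConcreteCategory.congr_hom (IsIso.inv_hom_id (pullLift f η F ξ)) _
  · intro h
    rw [comp, ← h]
    exact ConcreteCategory.congr_hom (IsIso.hom_inv_id (pullLift f η F ξ)) _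

theorem comp_add (f : X ⟶ S) (η : Spec (CommRingCat.of Ω) ⟶ S) (F : EtCoh.Ab S) (ξ : Lifts f η) (z z') :
    comp f η F ξ (z + z') = comp f η F ξ z + comp f η F ξ z' := by
  simp only [comp, map_add]

theorem comp_natural (f : X ⟶ S) (η : Spec (CommRingCat.of Ω) ⟶ S) {F G : EtCoh.Ab S} (m : F ⟶ G)
    (ξ : Lifts f η) (z : (EtCoh.stalk η).obj ((EtCoh.push f).obj ((EtCoh.pull f).obj F))) :
    comp f η G ξ ((EtCoh.stalk η).map ((EtCoh.push f).map ((EtCoh.pull f).map m)) z) =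
      (EtCoh.stalk η).map m (comp f η F ξ z) := by
  rw [comp_eq_iff, pullLift_natural, pushLift_natural, (comp_eq_iff f η F ξ z _).1 rfl]

theorem comp_unit (f : X ⟶ S) (η : Spec (CommRingCat.of Ω) ⟶ S) (F : EtCoh.Ab S) (ξ : Lifts f η)
    (z : (EtCoh.stalk η).obj F) :
    comp f η F ξ ((EtCoh.stalk η).map ((EtCoh.pullPushAdj f).unit.app F) z) = z := by
  rw [comp_eq_iff]
  obtain ⟨V, v, t, rfl⟩ := exists_germ z
  rw [germ_app, germ_pullLift]
  exact (germ_pushLift f η ((EtCoh.pull f).obj F) ξ V v _).symm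

variable [IsAlgClosed Ω]

/-- The trace on the stalk at a geometric point. -/
def φ (f : X ⟶ S) (η : Spec (CommRingCat.of Ω) ⟶ S) (F : EtCoh.Ab S)
    (z : (EtCoh.stalk η).obj ((EtCoh.push f).obj ((EtCoh.pull f).obj F))) : (EtCoh.stalk η).obj F :=
  ∑ᶠ ξ : Lifts f η, deg f ξ.1 • comp f η F ξ z

variable (f : X ⟶ S) [IsFinite f] (η : Spec (CommRingCat.of Ω) ⟶ S) (F : EtCoh.Ab S)

omit [IsSepClosed Ω] in
theorem finite_lifts' : Finite (Lifts f η) := Groth.Agent.EtIntegral.finite_lifts f η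

theorem φ_eq_sum [Fintype (Lifts f η)] (z) : φ f η F z = ∑ ξ : Lifts f η, deg f ξ.1 • comp f η F ξ z :=
  finsum_eq_sum_of_fintype _

theorem φ_add (z z') : φ f η F (z + z') = φ f η F z + φ f η F z' := by
  haveI := finite_lifts' f η
  letI := Fintype.ofFinite (Lifts f η)
  simp only [φ_eq_sum, comp_add, smul_add, Finset.sum_add_distrib]

theorem φ_natural {F G : EtCoh.Ab S} (m : F ⟶ G) (z) :
    φ f η G ((EtCoh.stalk η).map ((EtCoh.push f).map ((EtCoh.pull f).map m)) z) =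
      (EtCoh.stalk η).map m (φ f η F z) := by
  haveI := finite_lifts' f η
  letI := Fintype.ofFinite (Lifts f η)
  simp only [φ_eq_sum, comp_natural, map_sum, map_zsmul]

theorem φ_unit [Flat f] (z : (EtCoh.stalk η).obj F) :
    φ f η F ((EtCoh.stalk η).map ((EtCoh.pullPushAdj f).unit.app F) z) = f.finrank (pt η) • z := by
  haveI := finite_lifts' f η
  letI := Fintype.ofFinite (Lifts f η)
  simp only [φ_eq_sum, comp_unit, ← Finset.sum_smul]
  rw [← finsum_eq_sum_of_fintype, sum_deg, natCast_zsmul]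

end Groth.Agent.EtTrace
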